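import Cfsg.Agent.Lib.ClassSizes.SolvAutomizer.Fixed

/-!
# A non-scalar abelian normal subgroup of a linear group of prime degree spans a field
-/

set_option autoImplicit false
set_option linter.all false

namespace CfsgLib.ClassSizes.SolvAutomizer

variable {p : ℕ} [hp : Fact p.Prime] {V : Type*} [AddCommGroup V] [Module (ZMod p) V] [Finite V]

/-- Scalar maps. -/
def Scal (h : V ≃ₗ[ZMod p] V) : Prop := lin h ∈ (⊥ : Subalgebra (ZMod p) (Module.End (ZMod p) V))

theorem scal_iff {h : V ≃ₗ[ZMod p] V} : Scal h ↔ ∃ c : ZMod p, ∀ v, h v = c • v := by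
  rw [Scal, Algebra.mem_bot]
  constructor
  · rintro ⟨c, hc⟩
    exact ⟨c, fun v => by
      have := LinearMap.congr_fun hc v
      rw [Module.algebraMap_end_apply] at this
      exact this.symm⟩
  · rintro ⟨c, hc⟩
    exact ⟨c, LinearMap.ext fun v => by rw [Module.algebraMap_end_apply]; exact (hc v).symm⟩

theorem Scal.comm {h : V ≃ₗ[ZMod p] V} (hh : Scal h) (g : V ≃ₗ[ZMod p] V) : h * g = g * h := by
  obtain ⟨c, hc⟩ := scal_iff.1 hh
  exact LinearEquiv.ext fun v => by
    show h (g v) = g (h v)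
    rw [hc, hc, map_smul]

/-- Subspaces cut out by kernels of elements of `K`. -/
def Closed (K : Subalgebra (ZMod p) (Module.End (ZMod p) V)) (U : Submodule (ZMod p) V) : Prop :=
  U ≠ ⊥ ∧ ∀ v, (∀ x ∈ K, (∀ u ∈ U, x u = 0) → x v = 0) → v ∈ U

theorem exists_pow_apply_mem {W : Submodule (ZMod p) V} {σ : V ≃ₗ[ZMod p] V} {a b : ℕ} (hab : a ≤ b)
    (h : W.map (lin (σ ^ a)) = W.map (lin (σ ^ b))) : ∀ w ∈ W, (σ ^ (b - a)) w ∈ W := by
  intro w hw
  have h1 : (σ ^ b) w ∈ W.map (lin (σ ^ b)) := ⟨w, hw, rfl⟩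
  rw [← h] at h1
  obtain ⟨u, hu, hue⟩ := h1
  have h2 : σ ^ b = σ ^ a * σ ^ (b - a) := by rw [← pow_add, Nat.add_sub_cancel' hab]
  rw [h2, LinearEquiv.mul_apply] at hue
  exact (σ ^ a).injective hue ▸ hu

theorem coords_of_abelian_normal {n s : ℕ} (hprime : n.Prime) (hn : Module.finrank (ZMod p) V = n)
    (hs : Prim p s n) (hsn : n < s) (X : Subgroup (V ≃ₗ[ZMod p] V)) {σ : V ≃ₗ[ZMod p] V} (hσX : σ ∈ X)
    (hσ : orderOf σ = s) (A : Subgroup X) (hA : A.Normal) (hab : ∀ a ∈ A, ∀ b ∈ A, a * b = b * a)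
    (hns : ∃ a ∈ A, ¬ Scal (a : V ≃ₗ[ZMod p] V)) :
    ∃ K, Nonempty (Coords n X K) := by
  classical
  have hσs : σ ^ s = 1 := hσ ▸ pow_orderOf_eq_one σ
  have hσ1 : σ ≠ 1 := fun e => by rw [e, orderOf_one] at hσ; exact hs.1.one_lt.ne hσ
  have hirr : ∀ W : Submodule (ZMod p) V, (∀ w ∈ W, σ w ∈ W) → W = ⊥ ∨ W = ⊤ :=
    eq_bot_or_top (s := s) (hn ▸ hs) (by rw [hn]; exact hprime.ne_zero) hσs hσ1
  set S : Set (Module.End (ZMod p) V) := (fun a : X => lin (a : V ≃ₗ[ZMod p] V)) '' (A : Set X) with hS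
  set K := Algebra.adjoin (ZMod p) S with hK
  have hcomm1 : ∀ x ∈ K, ∀ y ∈ S, x * y = y * x := by
    intro x hx y hy
    induction hx using Algebra.adjoin_induction with
    | mem x hx =>
      obtain ⟨a, ha, rfl⟩ := hx
      obtain ⟨b, hb, rfl⟩ := hy
      exact congrArg (fun g : X => lin (g : V ≃ₗ[ZMod p] V)) (hab a ha b hb)
    | algebraMap r => exact Algebra.commutes r y
    | add a b _ _ ea eb => rw [add_mul, mul_add, ea, eb]
    | mul a b _ _ ea eb => rw [mul_assoc, eb, ← mul_assoc, ea, mul_assoc]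
  have hcomm : ∀ x ∈ K, ∀ y ∈ K, x * y = y * x := by
    intro x hx y hy
    induction hy using Algebra.adjoin_induction with
    | mem y hy => exact hcomm1 x hx y hy
    | algebraMap r => exact (Algebra.commutes r x).symm
    | add a b _ _ ea eb => rw [add_mul, mul_add, ea, eb]
    | mul a b _ _ ea eb => rw [← mul_assoc, ea, mul_assoc, eb, ← mul_assoc]
  have hnorm : ∀ h ∈ X, ∀ x ∈ K, (h : V ≃ₗ[ZMod p] V).conjAlgEquiv (ZMod p) x ∈ K := by
    intro h hh x hx
    have h1 : K.map ((h : V ≃ₗ[ZMod p] V).conjAlgEquiv (ZMod p)).toAlgHom ≤ K := by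
      rw [hK, AlgHom.map_adjoin, Algebra.adjoin_le_iff]
      rintro _ ⟨_, ⟨a, ha, rfl⟩, rfl⟩
      exact Algebra.subset_adjoin ⟨_, hA.conj_mem a ha ⟨h, hh⟩, rfl⟩
    exact h1 ⟨x, hx, rfl⟩
  haveI : Nontrivial V := Module.nontrivial_of_finrank_pos (R := ZMod p) (by rw [hn]; exact hprime.pos)
  obtain ⟨W, hW, hmin⟩ : ∃ W, Closed K W ∧
      ∀ U, Closed K U → Module.finrank (ZMod p) W ≤ Module.finrank (ZMod p) U := by
    have hex : ∃ d, ∃ W, Closed K W ∧ Module.finrank (ZMod p) W = d :=
      ⟨_, ⊤, ⟨top_ne_bot, fun v _ => Submodule.mem_top⟩, rfl⟩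
    obtain ⟨W, hW, hWd⟩ := Nat.find_spec hex
    exact ⟨W, hW, fun U hU => hWd ▸ Nat.find_min' hex ⟨U, hU, rfl⟩⟩
  have himg : ∀ h ∈ X, ∀ U, Closed K U → Closed K (U.map (lin (h : V ≃ₗ[ZMod p] V))) := by
    intro h hh U hU
    refine ⟨fun e => hU.1 ?_, fun v hv => ⟨h.symm v, hU.2 _ fun x hx hxU => ?_, h.apply_symm_apply v⟩⟩
    · rw [Submodule.eq_bot_iff] at e ⊢
      exact fun u hu => h.map_eq_zero_iff.1 (e _ ⟨u, hu, rfl⟩)
    · have := hv _ (hnorm h hh x hx) (by
        rintro _ ⟨u, hu, rfl⟩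
        show h (x (h.symm (h u))) = 0
        rw [h.symm_apply_apply, hxU u hu, map_zero])
      exact h.map_eq_zero_iff.1 this
  -- elements of `K` act as zero or injectively on minimal closed subspaces
  have hzi : ∀ U, Closed K U → Module.finrank (ZMod p) U = Module.finrank (ZMod p) W →
      ∀ x ∈ K, (∀ u ∈ U, x u = 0) ∨ ∀ u ∈ U, x u = 0 → u = 0 := by
    intro U hU hd x hx
    by_cases hb : U ⊓ LinearMap.ker x = ⊥
    · exact Or.inr fun u hu h0 => (Submodule.mem_bot (ZMod p)).1 (hb ▸ ⟨hu, LinearMap.mem_ker.2 h0⟩)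
    · left
      have hcl : Closed K (U ⊓ LinearMap.ker x) :=
        ⟨hb, fun v hv => ⟨hU.2 v fun y hy hyU => hv y hy fun u hu => hyU u hu.1,
          LinearMap.mem_ker.2 (hv x hx fun u hu => LinearMap.mem_ker.1 hu.2)⟩⟩
      have h2 : U ⊓ LinearMap.ker x = U :=
        Submodule.eq_of_le_of_finrank_le inf_le_left (by rw [hd]; exact hmin _ hcl)
      exact fun u hu => LinearMap.mem_ker.1 (h2.ge hu).2
  have hWσ : ∀ w ∈ W, σ w ∈ W := by
    by_contra hno
    let U : Fin s → Submodule (ZMod p) V := fun i => W.map (lin (σ ^ (i : ℕ)))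
    have hUc : ∀ i, Closed K (U i) := fun i => himg _ (X.pow_mem hσX _) _ hW
    have hUd : ∀ i, Module.finrank (ZMod p) (U i) = Module.finrank (ZMod p) W := fun i =>
      LinearEquiv.finrank_map_eq (σ ^ (i : ℕ)) W
    have hUinj : Function.Injective U := by
      suffices ∀ i k : Fin s, (i : ℕ) < k → U i ≠ U k by
        intro i k e
        rcases lt_trichotomy (i : ℕ) k with h | h | h
        exacts [absurd e (this i k h), Fin.ext h, absurd e.symm (this k i h)]
      intro i k hik e
      refine hno fun w hw => ?_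
      have h1 := exists_pow_apply_mem hik.le e
      have h2 : ∀ (m : ℕ) (w : V), w ∈ W → ((σ ^ ((k : ℕ) - i)) ^ m) w ∈ W := by
        intro m
        induction m with
        | zero => intro w hw; exact hw
        | succ m ih => intro w hw; rw [pow_succ', LinearEquiv.mul_apply]; exact h1 _ (ih w hw)
      have hcop : ((k : ℕ) - i).Coprime s :=
        (hs.1.coprime_iff_not_dvd.2 (Nat.not_dvd_of_pos_of_lt (by omega) (by omega))).symm
      obtain ⟨m, hm⟩ := Nat.exists_mul_mod_eq_one_of_coprime hcop hs.1.one_lt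
      have h3 := h2 m w hw
      rwa [← pow_mul, ← pow_mod_orderOf, hσ, hm.2, pow_one] at h3
    have hsep : ∀ i (T : Finset (Fin s)), i ∉ T → ∃ x ∈ K, (∀ k ∈ T, ∀ u ∈ U k, x u = 0) ∧
        ∀ u ∈ U i, x u = 0 → u = 0 := by
      intro i T
      induction T using Finset.induction_on with
      | empty => intro _; exact ⟨1, K.one_mem, by simp, fun u _ h => h⟩
      | insert k T hk ih =>
        intro hi
        obtain ⟨x, hx, hx1, hx2⟩ := ih fun h => hi (Finset.mem_insert_of_mem h)
        obtain ⟨y, hy, hy1, hy2⟩ : ∃ y ∈ K, (∀ u ∈ U k, y u = 0) ∧ ¬ ∀ u ∈ U i, y u = 0 := by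
          by_contra hne
          simp only [not_exists, not_and, not_not] at hne
          have hle : U i ≤ U k := fun v hv => (hUc k).2 v fun y hy hyk => hne y hy hyk v hv
          have := Submodule.eq_of_le_of_finrank_le hle (by rw [hUd, hUd])
          exact hi (hUinj this ▸ Finset.mem_insert_self k T)
        have hy3 := (hzi _ (hUc i) (hUd i) y hy).resolve_left hy2
        refine ⟨y * x, K.mul_mem hy hx, fun l hl u hu => ?_, fun u hu h0 => ?_⟩
        · rcases Finset.mem_insert.1 hl with rfl | hl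
          · rw [hcomm y hy x hx, Module.End.mul_apply, hy1 u hu, map_zero]
          · rw [Module.End.mul_apply, hx1 l hl u hu, map_zero]
        · refine hy3 u hu (hx2 u hu ?_ ▸ map_zero y)
          by_contra hne
          rcases hzi _ (hUc i) (hUd i) (y * x) (K.mul_mem hy hx) with h | h
          · exact hy2 fun v hv => by
              obtain ⟨w, hw, hwv⟩ : ∃ w ∈ U i, x w = v := by
                have hinv : ∀ w ∈ U i, x w ∈ U i := fun w hw => (hUc i).2 _ fun z hz hzU => by
                  rw [← Module.End.mul_apply, hcomm z hz x hx, Module.End.mul_apply, hzU w hw, map_zero]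
                let f : U i → U i := fun w => ⟨x w, hinv w w.2⟩
                obtain ⟨w, hw⟩ := (Finite.injective_iff_surjective (f := f)).1 (fun a b e => Subtype.ext
                  (sub_eq_zero.1 (hx2 _ ((U i).sub_mem a.2 b.2)
                    (by rw [map_sub]; exact sub_eq_zero.2 (congrArg Subtype.val e))))) ⟨v, hv⟩
                exact ⟨w, w.2, congrArg Subtype.val hw⟩
              rw [← hwv, ← Module.End.mul_apply]
              exact h w hw
          · have hu0 := h u hu h0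
            rw [hu0, map_zero] at hne
            exact hne rfl
    have hind : iSupIndep U := by
      intro i
      rw [disjoint_iff, Submodule.eq_bot_iff]
      rintro v ⟨hv1, hv2⟩
      obtain ⟨x, hx, hx1, hx2⟩ := hsep i (Finset.univ.erase i) (Finset.notMem_erase i _)
      refine hx2 v hv1 ?_
      have hle : (⨆ (k) (_ : k ≠ i), U k) ≤ LinearMap.ker x := iSup₂_le fun k hk u hu =>
        LinearMap.mem_ker.2 (hx1 k (Finset.mem_erase.2 ⟨hk, Finset.mem_univ k⟩) u hu)
      exact LinearMap.mem_ker.1 (hle hv2)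
    have := hind.subtype_ne_bot_le_finrank
    rw [Fintype.card_congr (Equiv.subtypeUnivEquiv fun i => (hUc i).1), Fintype.card_fin, hn] at this
    omega
  have hWtop : W = ⊤ := (hirr W hWσ).resolve_left hW.1
  have hinj : ∀ x ∈ K, x ≠ 0 → Function.Injective x := by
    intro x hx h0
    rcases hzi W hW rfl x hx with h | h
    · exact absurd (LinearMap.ext fun v => h v (hWtop ▸ Submodule.mem_top)) h0
    · rw [← LinearMap.ker_eq_bot, Submodule.eq_bot_iff]
      exact fun v hv => h v (hWtop ▸ Submodule.mem_top) (LinearMap.mem_ker.1 hv)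
  obtain ⟨v0, hv0⟩ := exists_ne (0 : V)
  have hinj0 : ∀ x ∈ K, x v0 = 0 → x = 0 := fun x hx h0 => by
    by_contra hne
    exact hv0 (hinj x hx hne (h0.trans (map_zero x).symm))
  have hKbot : K ≠ ⊥ := fun e => by
    obtain ⟨a, ha, hna⟩ := hns
    refine hna ?_
    rw [Scal, ← e]
    exact Algebra.subset_adjoin ⟨a, ha, rfl⟩
  have hsurj : ∀ v : V, ∃ x ∈ K, x v0 = v := by
    haveI : Finite (Module.End (ZMod p) V) := Finite.of_injective _ DFunLike.coe_injective
    haveI : Nontrivial K := ⟨0, 1, fun e => hv0 (by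
      have := LinearMap.congr_fun (congrArg Subtype.val e) v0
      simpa using this.symm)⟩
    letI : CommRing K := { (inferInstance : Ring K) with mul_comm := fun x y => Subtype.ext (hcomm _ x.2 _ y.2) }
    haveI : NoZeroDivisors K := ⟨fun {x y} hxy => by
      by_cases hy : (y : Module.End (ZMod p) V) v0 = 0
      · exact Or.inr (Subtype.ext (hinj0 _ y.2 hy))
      · left
        by_contra hx
        refine hy (hinj _ x.2 (fun e => hx (Subtype.ext e)) ?_)
        rw [map_zero]
        show ((x * y : K) : Module.End (ZMod p) V) v0 = 0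
        rw [hxy]
        rfl⟩
    haveI : IsDomain K := NoZeroDivisors.to_isDomain K
    letI : Field K := (Finite.isDomain_to_isField K).toField
    haveI : IsScalarTower (ZMod p) K V := ⟨fun c x v => rfl⟩
    have hmul := Module.finrank_mul_finrank (ZMod p) K V
    rw [hn] at hmul
    rcases (Nat.dvd_prime hprime).1 (Dvd.intro _ hmul) with e | e
    · exact absurd (Subalgebra.eq_bot_of_finrank_one e) hKbot
    · rw [e] at hmul
      have h1 : Module.finrank K V = 1 :=
        Nat.eq_of_mul_eq_mul_left hprime.pos (hmul.trans (mul_one n).symm)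
      intro v
      obtain ⟨c, hc⟩ := (finrank_eq_one_iff_of_nonzero' v0 hv0).1 h1 v
      exact ⟨c, c.2, hc⟩
  exact ⟨K, exists_coords hprime.ne_zero
    (by rw [Module.natCard_eq_pow_finrank (K := ZMod p), Nat.card_zmod, hn]) X K hcomm hinj0 hinj hsurj hnorm⟩

end CfsgLib.ClassSizes.SolvAutomizer
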