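import Mathlib

/-!
# Linear groups normalising a field of endomorphisms of full dimension are semilinear
-/

set_option autoImplicit false
set_option linter.all false

namespace CfsgLib.ClassSizes.SolvAutomizer

variable {p : ℕ} [hp : Fact p.Prime] {V : Type*} [AddCommGroup V] [Module (ZMod p) V] [Finite V]

abbrev lin (h : V ≃ₗ[ZMod p] V) : Module.End (ZMod p) V := h.toLinearMap

/-- The order of the automorphism group of a finite field. -/
theorem card_ringAut (n : ℕ) (hn : n ≠ 0) :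
    Nat.card (GaloisField p n ≃+* GaloisField p n) = n := by
  let A : (GaloisField p n ≃+* GaloisField p n) ≃ (GaloisField p n ≃ₐ[ZMod p] GaloisField p n) :=
    { toFun := fun e => AlgEquiv.ofRingEquiv (f := e) (fun r =>
        RingHom.congr_fun (Subsingleton.elim ((e : GaloisField p n →+* GaloisField p n).comp
          (algebraMap (ZMod p) (GaloisField p n))) (algebraMap (ZMod p) (GaloisField p n))) r)
      invFun := fun e => e.toRingEquiv
      left_inv := fun e => RingEquiv.ext fun x => rfl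
      right_inv := fun e => AlgEquiv.ext fun x => rfl }
  rw [Nat.card_congr A, IsGalois.card_aut_eq_finrank, GaloisField.finrank p hn]

/-- The semilinear coordinates attached to a commutative algebra of endomorphisms which is regular
on the nonzero vectors. -/
structure Coords (n : ℕ) (H : Subgroup (V ≃ₗ[ZMod p] V)) (K : Subalgebra (ZMod p) (Module.End (ZMod p) V)) where
  e : V ≃+ GaloisField p n
  χ : H →* (GaloisField p n ≃+* GaloisField p n)
  ν : H → (GaloisField p n)ˣ
  apply : ∀ (h : H) (v : V), e ((h : V ≃ₗ[ZMod p] V) v) = (ν h : GaloisField p n) * χ h (e v)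
  mul : ∀ x ∈ K, ∃ c : GaloisField p n, ∀ v : V, e (x v) = c * e v
  mem : ∀ h : H, χ h = 1 → lin (h : V ≃ₗ[ZMod p] V) ∈ K

theorem exists_coords {n : ℕ} (hn : n ≠ 0) (hcard : Nat.card V = p ^ n) (H : Subgroup (V ≃ₗ[ZMod p] V))
    (K : Subalgebra (ZMod p) (Module.End (ZMod p) V))
    (hc : ∀ x ∈ K, ∀ y ∈ K, x * y = y * x) {v0 : V} (hinj : ∀ x ∈ K, x v0 = 0 → x = 0)
    (hinj' : ∀ x ∈ K, x ≠ 0 → Function.Injective x)
    (hsurj : ∀ v : V, ∃ x ∈ K, x v0 = v)
    (hnorm : ∀ h ∈ H, ∀ x ∈ K, (h : V ≃ₗ[ZMod p] V).conjAlgEquiv (ZMod p) x ∈ K) :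
    Nonempty (Coords n H K) := by
  haveI : Nontrivial V := by
    rw [← Finite.one_lt_card_iff_nontrivial, hcard]
    exact Nat.one_lt_pow hn hp.out.one_lt
  haveI : Finite (Module.End (ZMod p) V) := Finite.of_injective _ DFunLike.coe_injective
  haveI : Nontrivial K := ⟨0, 1, fun e => by
    obtain ⟨v, hv⟩ := exists_ne (0 : V)
    have := LinearMap.congr_fun (congrArg Subtype.val e) v
    exact hv (by simpa using this.symm)⟩
  letI : CommRing K := { (inferInstance : Ring K) with mul_comm := fun x y => Subtype.ext (hc _ x.2 _ y.2) }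
  haveI : NoZeroDivisors K := ⟨fun {x y} hxy => by
    by_cases hx : (x : Module.End (ZMod p) V) = 0
    · exact Or.inl (Subtype.ext hx)
    · refine Or.inr (Subtype.ext (LinearMap.ext fun v => hinj' _ x.2 hx ?_))
      have h1 : ((x * y : K) : Module.End (ZMod p) V) v = 0 := by rw [hxy]; rfl
      rw [Subalgebra.coe_zero, LinearMap.zero_apply, map_zero]
      exact h1⟩
  haveI : IsDomain K := NoZeroDivisors.to_isDomain K
  haveI : Finite K := inferInstance
  letI : Field K := (Finite.isDomain_to_isField K).toField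
  let φ0 : K →ₗ[ZMod p] V := (LinearMap.applyₗ v0).comp K.val.toLinearMap
  have hφ : ∀ x : K, φ0 x = (x : Module.End (ZMod p) V) v0 := fun x => rfl
  let φ : K ≃ₗ[ZMod p] V := LinearEquiv.ofBijective φ0 ⟨fun x y hxy => by
      have h := hinj _ (x - y).2 (by
        rw [Subalgebra.coe_sub, LinearMap.sub_apply, ← hφ, ← hφ, hxy, sub_self])
      exact sub_eq_zero.1 (Subtype.ext h),
    fun v => by obtain ⟨x, hx, rfl⟩ := hsurj v; exact ⟨⟨x, hx⟩, rfl⟩⟩
  have hφs : ∀ v : V, ((φ.symm v : K) : Module.End (ZMod p) V) v0 = v := fun v => φ.apply_symm_apply v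
  have hcardK : Nat.card K = p ^ n := by rw [Nat.card_congr φ.toEquiv, hcard]
  let g : K ≃ₐ[ZMod p] GaloisField p n := GaloisField.algEquivGaloisField p n hcardK
  let c : H → (K ≃ₐ[ZMod p] K) := fun h => AlgEquiv.ofBijective
    ((((h : V ≃ₗ[ZMod p] V).conjAlgEquiv (ZMod p)).toAlgHom.comp K.val).codRestrict K fun x => hnorm _ h.2 x x.2)
    ((Finite.injective_iff_bijective).1 fun x y hxy =>
      Subtype.ext (((h : V ≃ₗ[ZMod p] V).conjAlgEquiv (ZMod p)).injective (congrArg Subtype.val hxy)))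
  have hcv : ∀ (h : H) (x : K) (v : V), ((c h x : K) : Module.End (ZMod p) V) ((h : V ≃ₗ[ZMod p] V) v) =
      (h : V ≃ₗ[ZMod p] V) ((x : Module.End (ZMod p) V) v) := by
    intro h x v
    show (h : V ≃ₗ[ZMod p] V) ((x : Module.End (ZMod p) V) ((h : V ≃ₗ[ZMod p] V).symm ((h : V ≃ₗ[ZMod p] V) v))) = _
    rw [LinearEquiv.symm_apply_apply]
  have hν0 : ∀ h : H, g (φ.symm ((h : V ≃ₗ[ZMod p] V) v0)) ≠ 0 := by
    intro h e
    rw [map_eq_zero_iff g g.injective, LinearEquiv.map_eq_zero_iff, LinearEquiv.map_eq_zero_iff] at e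
    obtain ⟨v, hv⟩ := exists_ne (0 : V)
    obtain ⟨x, hx, rfl⟩ := hsurj v
    exact hv (by rw [e, map_zero])
  have key : ∀ (h : H) (v : V), φ.symm ((h : V ≃ₗ[ZMod p] V) v) =
      φ.symm ((h : V ≃ₗ[ZMod p] V) v0) * c h (φ.symm v) := by
    intro h v
    apply φ.injective
    rw [φ.apply_symm_apply, mul_comm]
    show _ = ((c h (φ.symm v) : K) : Module.End (ZMod p) V)
      (((φ.symm ((h : V ≃ₗ[ZMod p] V) v0) : K) : Module.End (ZMod p) V) v0)
    rw [hφs, hcv, hφs]
  let Φ : H →* (K ≃ₐ[ZMod p] K) := MonoidHom.mk' c fun a b => AlgEquiv.ext fun x => Subtype.ext (LinearMap.ext fun v => by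
    obtain ⟨w, rfl⟩ := ((a * b : H) : V ≃ₗ[ZMod p] V).surjective v
    rw [hcv]
    show _ = ((c a (c b x) : K) : Module.End (ZMod p) V) ((a : V ≃ₗ[ZMod p] V) ((b : V ≃ₗ[ZMod p] V) w))
    rw [hcv, hcv]
    rfl)
  let τ : (K ≃ₐ[ZMod p] K) →* (GaloisField p n ≃+* GaloisField p n) :=
    MonoidHom.mk' (fun a => (g.symm.toRingEquiv.trans a.toRingEquiv).trans g.toRingEquiv) fun a b =>
      RingEquiv.ext fun x => by
        show g (a (b (g.symm x))) = g (a (g.symm (g (b (g.symm x)))))
        rw [AlgEquiv.symm_apply_apply]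
  refine ⟨⟨φ.symm.toAddEquiv.trans g.toRingEquiv.toAddEquiv, τ.comp Φ,
    fun h => Units.mk0 _ (hν0 h), fun h v => ?_, fun x hx => ⟨g ⟨x, hx⟩, fun v => ?_⟩, fun h hh => ?_⟩⟩
  · show g (φ.symm ((h : V ≃ₗ[ZMod p] V) v)) = _ * g (c h (g.symm (g (φ.symm v))))
    rw [AlgEquiv.symm_apply_apply, key, map_mul]
    rfl
  · show g (φ.symm (x v)) = g ⟨x, hx⟩ * g (φ.symm v)
    rw [← map_mul]
    congr 1
    apply φ.injective
    rw [φ.apply_symm_apply]
    show x v = x (((φ.symm v : K) : Module.End (ZMod p) V) v0)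
    rw [hφs]
  · have h1 : ∀ x : K, c h x = x := fun x => g.injective (by
      have := DFunLike.congr_fun hh (g x)
      change g (c h (g.symm (g x))) = g x at this
      rwa [AlgEquiv.symm_apply_apply] at this)
    have h2 : lin (h : V ≃ₗ[ZMod p] V) = ((φ.symm ((h : V ≃ₗ[ZMod p] V) v0) : K) : Module.End (ZMod p) V) := by
      refine LinearMap.ext fun v => ?_
      show (h : V ≃ₗ[ZMod p] V) v = _
      conv_lhs => rw [← φ.apply_symm_apply ((h : V ≃ₗ[ZMod p] V) v), key, h1]
      show ((φ.symm ((h : V ≃ₗ[ZMod p] V) v0) * φ.symm v : K) : Module.End (ZMod p) V) v0 = _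
      rw [Subalgebra.coe_mul, Module.End.mul_apply, hφs]
    rw [h2]
    exact Subtype.prop _

namespace Coords

variable {n : ℕ} {H : Subgroup (V ≃ₗ[ZMod p] V)} {K : Subalgebra (ZMod p) (Module.End (ZMod p) V)}

/-- On the kernel of `χ` the multiplier is multiplicative and injective. -/
theorem ker_mul (C : Coords n H K) :
    ∃ f : C.χ.ker →* (GaloisField p n)ˣ, Function.Injective f := by
  have h1 : ∀ (h : H), C.χ h = 1 → ∀ v, C.e ((h : V ≃ₗ[ZMod p] V) v) = (C.ν h : GaloisField p n) * C.e v :=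
    fun h hh v => by rw [C.apply, hh]; rfl
  have h2 : ∀ h : H, C.χ h = 1 → ∀ (a : (GaloisField p n)ˣ),
      (∀ v, C.e ((h : V ≃ₗ[ZMod p] V) v) = (a : GaloisField p n) * C.e v) → C.ν h = a := fun h hh a ha => by
    have := ha (C.e.symm 1)
    rw [h1 h hh, C.e.apply_symm_apply, mul_one, mul_one] at this
    exact Units.ext this
  refine ⟨MonoidHom.mk' (fun h => C.ν (h : H)) fun a b => h2 _ (a * b).2 _ fun v => ?_, ?_⟩
  · show C.e (((a : H) : V ≃ₗ[ZMod p] V) (((b : H) : V ≃ₗ[ZMod p] V) v)) = _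
    rw [h1 _ a.2, h1 _ b.2, Units.val_mul, mul_assoc]
  · intro a b hab
    refine Subtype.ext (Subtype.ext (LinearEquiv.ext fun v => C.e.injective ?_))
    rw [h1 _ a.2, h1 _ b.2]
    exact congrArg (fun u : (GaloisField p n)ˣ => (u : GaloisField p n) * C.e v) hab

theorem card_dvd (C : Coords n H K) (hn : n ≠ 0) : Nat.card H ∣ (p ^ n - 1) * n := by
  obtain ⟨f, hf⟩ := C.ker_mul
  rw [← C.χ.ker.card_mul_index, Subgroup.index_ker]
  refine mul_dvd_mul ?_ ?_
  · have h := Subgroup.card_dvd_of_injective f hf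
    rwa [Nat.card_units, GaloisField.card p n hn] at h
  · have := Subgroup.card_subgroup_dvd_card C.χ.range
    rwa [card_ringAut n hn] at this

/-- An element of prime order which does not lie in the field moves it, so its order divides `n`. -/
theorem orderOf_dvd_of_notMem (C : Coords n H K) (hn : n ≠ 0) {h : H} (ht : (orderOf h).Prime)
    (hK : lin (h : V ≃ₗ[ZMod p] V) ∉ K) : orderOf h ∣ n := by
  have h1 : orderOf (C.χ h) = orderOf h := by
    rcases (Nat.dvd_prime ht).1 (orderOf_map_dvd C.χ h) with e | e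
    · exact absurd (C.mem h (orderOf_eq_one_iff.1 e)) hK
    · exact e
  haveI : Finite (GaloisField p n ≃+* GaloisField p n) := Nat.finite_of_card_ne_zero (by rw [card_ringAut n hn]; exact hn)
  rw [← h1]
  exact (orderOf_dvd_natCard _).trans (card_ringAut n hn).dvd

end Coords

end CfsgLib.ClassSizes.SolvAutomizer
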