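import Cfsg.Prelude.Def_Perm
import Cfsg.Agent.Lib.ClassSizes.SolvAutomizer.Semilinear

/-!
# An extension of a semilinear group by its module is semiaffine
-/

set_option autoImplicit false
set_option linter.all false

namespace CfsgLib.ClassSizes.SolvAutomizer

open Cfsg

variable {p : ℕ} [hp : Fact p.Prime] {n : ℕ}

theorem card_semiaffine_le (hn : n ≠ 0) :
    Nat.card (semiaffineGroup (GaloisField p n)) ≤ (p ^ n - 1) * p ^ n * n := by
  let T := (GaloisField p n)ˣ × GaloisField p n × (GaloisField p n ≃+* GaloisField p n)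
  haveI : Finite (GaloisField p n ≃+* GaloisField p n) := Nat.finite_of_card_ne_zero (by rw [card_ringAut n hn]; exact hn)
  haveI : Finite T := inferInstance
  have h : ∀ σ : semiaffineGroup (GaloisField p n), ∃ x : T,
      ∀ y, (σ : Equiv.Perm (GaloisField p n)) y = (x.1 : GaloisField p n) * x.2.2 y + x.2.1 := fun σ => by
    obtain ⟨a, b, φ, h⟩ := σ.2
    exact ⟨⟨a, b, φ⟩, h⟩
  choose g hg using h
  refine (Nat.card_le_card_of_injective g fun a b e => Subtype.ext (Equiv.ext fun y => by rw [hg, hg, e])).trans ?_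
  rw [Nat.card_prod, Nat.card_prod, Nat.card_units, GaloisField.card p n hn, card_ringAut n hn, mul_assoc]

theorem card_affine_le (hn : n ≠ 0) :
    Nat.card (affineGroup (GaloisField p n)) ≤ (p ^ n - 1) * p ^ n := by
  have h : ∀ σ : affineGroup (GaloisField p n), ∃ x : (GaloisField p n)ˣ × GaloisField p n,
      ∀ y, (σ : Equiv.Perm (GaloisField p n)) y = (x.1 : GaloisField p n) * y + x.2 := fun σ => by
    obtain ⟨a, b, h⟩ := σ.2
    exact ⟨⟨a, b⟩, h⟩
  choose g hg using h
  refine (Nat.card_le_card_of_injective g fun a b e => Subtype.ext (Equiv.ext fun y => by rw [hg, hg, e])).trans ?_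
  rw [Nat.card_prod, Nat.card_units, GaloisField.card p n hn]

variable {V : Type*} [AddCommGroup V] [Module (ZMod p) V] [Finite V] {Q : Type*} [Group Q] [Finite Q]

theorem exists_embedding (ψ : Q →* (V ≃ₗ[ZMod p] V)) (ι : V → Q) (hι : ∀ a b, ι (a + b) = ι a * ι b)
    (hinj : Function.Injective ι) (hker : ∀ q, q ∈ ψ.ker ↔ ∃ v, ι v = q)
    (heq : ∀ q v, q * ι v * q⁻¹ = ι (ψ q v)) (hcop : (Nat.card ψ.ker).Coprime ψ.ker.index)
    {K : Subalgebra (ZMod p) (Module.End (ZMod p) V)} (C : Coords n ψ.range K) :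
    ∃ f : Q →* semiaffineGroup (GaloisField p n), Function.Injective f ∧
      ((∀ x, C.χ x = 1) → ∀ q, ((f q : Equiv.Perm (GaloisField p n))) ∈ affineGroup (GaloisField p n)) := by
  obtain ⟨L, hL⟩ := Subgroup.exists_right_complement'_of_coprime hcop
  have hzero : ι 0 = 1 := by
    have := hι 0 0
    rwa [add_zero, left_eq_mul] at this
  let m : V → Q ⧸ L := fun v => (ι v : Q ⧸ L)
  have hm : Function.Bijective m := by
    constructor
    · intro a b e
      rw [QuotientGroup.eq] at e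
      have h1 : (ι a)⁻¹ * ι b ∈ ψ.ker := ψ.ker.mul_mem (ψ.ker.inv_mem ((hker _).2 ⟨a, rfl⟩)) ((hker _).2 ⟨b, rfl⟩)
      have h2 := Subgroup.mem_bot.1 (hL.disjoint.le_bot ⟨h1, e⟩)
      exact hinj (inv_mul_eq_one.1 h2)
    · intro x
      induction x using QuotientGroup.induction_on with
      | H q =>
        obtain ⟨⟨⟨k, hk⟩, ⟨l, hl⟩⟩, e⟩ := hL.2 q
        obtain ⟨v, rfl⟩ := (hker k).1 hk
        refine ⟨v, ?_⟩
        rw [QuotientGroup.eq, ← e]
        simpa using hl
  let E : GaloisField p n ≃ Q ⧸ L := C.e.symm.toEquiv.trans (Equiv.ofBijective m hm)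
  let f0 : Q →* Equiv.Perm (GaloisField p n) :=
    MonoidHom.mk' (fun q => E.trans ((MulAction.toPerm q).trans E.symm)) fun a b => Equiv.ext fun x => by
      simp [mul_smul]
  have hform : ∀ q : Q, ∃ b : GaloisField p n, ∀ x,
      f0 q x = (C.ν (ψ.rangeRestrict q) : GaloisField p n) * C.χ (ψ.rangeRestrict q) x + b := by
    intro q
    obtain ⟨w, hw⟩ := hm.2 (q : Q ⧸ L)
    refine ⟨C.e w, fun x => E.injective ?_⟩
    show E (E.symm (q • E x)) = _
    rw [Equiv.apply_symm_apply]
    have h1 : C.e (ψ q (C.e.symm x) + w) =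
        (C.ν (ψ.rangeRestrict q) : GaloisField p n) * C.χ (ψ.rangeRestrict q) x + C.e w := by
      rw [map_add]
      congr 1
      have := C.apply (ψ.rangeRestrict q) (C.e.symm x)
      rw [AddEquiv.apply_symm_apply] at this
      exact this
    rw [← h1]
    show q • m (C.e.symm x) = m (C.e.symm (C.e (ψ q (C.e.symm x) + w)))
    rw [AddEquiv.symm_apply_apply]
    show ((q * ι (C.e.symm x) : Q) : Q ⧸ L) = (ι (ψ q (C.e.symm x) + w) : Q ⧸ L)
    change ((ι w : Q) : Q ⧸ L) = (q : Q ⧸ L) at hw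
    rw [QuotientGroup.eq] at hw
    rw [hι, ← heq, QuotientGroup.eq]
    have h2 : (q * ι (C.e.symm x))⁻¹ * (q * ι (C.e.symm x) * q⁻¹ * ι w) = ((ι w)⁻¹ * q)⁻¹ := by group
    rw [h2]
    exact L.inv_mem hw
  let f : Q →* semiaffineGroup (GaloisField p n) := f0.codRestrict _ fun q => by
    obtain ⟨b, hb⟩ := hform q
    exact ⟨C.ν (ψ.rangeRestrict q), b, C.χ (ψ.rangeRestrict q), hb⟩
  refine ⟨f, fun a c hac => ?_, fun h1 q => ?_⟩
  · have hac' : f0 a = f0 c := congrArg Subtype.val hac
    have hb : ∀ q, f0 q = 1 → q = 1 := by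
      intro q hq
      have hsm : ∀ z : Q ⧸ L, q • z = z := fun z => by
        obtain ⟨x, rfl⟩ := E.surjective z
        have := congrArg E (DFunLike.congr_fun hq x)
        exact (E.apply_symm_apply _).symm.trans this
      have hqL : q ∈ L := by
        have := hsm ((1 : Q) : Q ⧸ L)
        rw [MulAction.Quotient.smul_coe, smul_eq_mul, mul_one, QuotientGroup.eq, mul_one] at this
        simpa using L.inv_mem this
      have hqk : q ∈ ψ.ker := LinearEquiv.ext fun v => by
        have := hsm (m v)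
        show ψ q v = v
        refine hm.1 ?_
        show ((ι (ψ q v) : Q) : Q ⧸ L) = (ι v : Q ⧸ L)
        refine Eq.trans ?_ this
        show _ = ((q * ι v : Q) : Q ⧸ L)
        rw [← heq, QuotientGroup.eq]
        have h2 : (q * ι v * q⁻¹)⁻¹ * (q * ι v) = q := by group
        rwa [h2]
      exact Subgroup.mem_bot.1 (hL.disjoint.le_bot ⟨hqk, hqL⟩)
    exact inv_mul_eq_one.1 (hb _ (by rw [map_mul, map_inv, hac', inv_mul_cancel]))
  · obtain ⟨b, hb⟩ := hform q
    exact ⟨C.ν (ψ.rangeRestrict q), b, fun x => by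
      show f0 q x = _
      rw [hb, h1]; rfl⟩

end CfsgLib.ClassSizes.SolvAutomizer
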