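import Cfsg.Agent.Lib.ClassSizes.SolvAutomizer.Semilinear

/-!
# Linear maps whose order is a primitive prime divisor
-/

set_option autoImplicit false
set_option linter.all false

namespace CfsgLib.ClassSizes.SolvAutomizer

/-- `s` is a primitive prime divisor of `p ^ j - 1`. -/
def Prim (p s j : ℕ) : Prop := s.Prime ∧ s ∣ p ^ j - 1 ∧ ∀ i, 0 < i → i < j → ¬ s ∣ p ^ i - 1

variable {p : ℕ} [hp : Fact p.Prime]

theorem Prim.ne_char {s j : ℕ} (h : Prim p s j) (hj : j ≠ 0) : s ≠ p := by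
  intro e
  subst e
  have h1 : s ∣ s ^ j := dvd_pow_self s hj
  have h2 : 1 ≤ s ^ j := Nat.one_le_pow _ _ h.1.pos
  have := Nat.dvd_sub h1 h.2.1
  rw [Nat.sub_sub_self h2, Nat.dvd_one] at this
  exact h.1.one_lt.ne' this

theorem Prim.dvd_of_dvd {s j c : ℕ} (h : Prim p s j) (hj : j ≠ 0) (hc : s ∣ p ^ c - 1) : j ∣ c := by
  have h1 : s ∣ p ^ Nat.gcd j c - 1 := by
    rw [← Nat.pow_sub_one_gcd_pow_sub_one]
    exact Nat.dvd_gcd h.2.1 hc
  have hg : 0 < Nat.gcd j c := Nat.gcd_pos_of_pos_left _ (Nat.pos_of_ne_zero hj)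
  rcases (Nat.le_of_dvd (Nat.pos_of_ne_zero hj) (Nat.gcd_dvd_left j c)).lt_or_eq with hlt | he
  · exact absurd h1 (h.2.2 _ hg hlt)
  · exact he ▸ Nat.gcd_dvd_right j c

theorem Prim.modEq_one {s j : ℕ} (h : Prim p s j) (hj : j ≠ 0) : j ∣ s - 1 := by
  refine h.dvd_of_dvd hj ?_
  have := Nat.ModEq.pow_totient ((Nat.coprime_primes hp.out h.1).2 (h.ne_char hj).symm)
  rw [Nat.totient_prime h.1] at this
  exact (Nat.modEq_iff_dvd' (Nat.one_le_pow _ _ hp.out.pos)).1 this.symm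

theorem modEq_card_fixed {α : Type*} [Finite α] (π : Equiv.Perm α) {s : ℕ} (hs : s.Prime) (h : π ^ s = 1) :
    Nat.card α ≡ Nat.card {x : α // π x = x} [MOD s] := by
  have := Fact.mk hs
  have hP : IsPGroup s (Subgroup.zpowers π) := by
    intro g
    refine ⟨1, Subtype.ext ?_⟩
    obtain ⟨k, hk⟩ := g.2
    rw [pow_one, Subgroup.coe_pow, Subgroup.coe_one, ← hk, ← zpow_natCast, ← zpow_mul, mul_comm, zpow_mul,
      zpow_natCast, h, one_zpow]
  refine (hP.card_modEq_card_fixedPoints α).trans ?_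
  show _ % s = _ % s
  congr 1
  refine Nat.card_congr (Equiv.subtypeEquivRight fun x => ?_)
  refine ⟨fun hx => hx ⟨π, Subgroup.mem_zpowers π⟩, fun hx g => ?_⟩
  obtain ⟨g, k, rfl⟩ := g
  exact Equiv.Perm.zpow_apply_eq_self_of_apply_eq_self hx k

variable {V : Type*} [AddCommGroup V] [Module (ZMod p) V] [Finite V]

/-- The fixed space. -/
def fix (σ : V ≃ₗ[ZMod p] V) : Submodule (ZMod p) V := LinearMap.eqLocus (lin σ) LinearMap.id

theorem mem_fix {σ : V ≃ₗ[ZMod p] V} {v : V} : v ∈ fix σ ↔ σ v = v := Iff.rfl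

theorem fix_ne_top {σ : V ≃ₗ[ZMod p] V} (h : σ ≠ 1) : fix σ ≠ ⊤ := fun e =>
  h (LinearEquiv.ext fun v => mem_fix.1 (e ▸ Submodule.mem_top))

theorem apply_mem_iff {σ : V ≃ₗ[ZMod p] V} {W : Submodule (ZMod p) V} (hW : ∀ w ∈ W, σ w ∈ W) (w : V) :
    σ w ∈ W ↔ w ∈ W := by
  refine ⟨fun h => ?_, hW w⟩
  let f : W → W := fun x => ⟨σ x, hW x x.2⟩
  obtain ⟨u, hu⟩ := (Finite.injective_iff_surjective (f := f)).1
    (fun a b e => Subtype.ext (σ.injective (congrArg Subtype.val e))) ⟨σ w, h⟩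
  exact σ.injective (congrArg Subtype.val hu) ▸ u.2

theorem dvd_sub_fixed {σ : V ≃ₗ[ZMod p] V} {s : ℕ} (hs : s.Prime) (hsp : s ≠ p) (hσ : σ ^ s = 1)
    (W : Submodule (ZMod p) V) (hW : ∀ w ∈ W, σ w ∈ W) :
    s ∣ p ^ (Module.finrank (ZMod p) W - Module.finrank (ZMod p) (W ⊓ fix σ : Submodule (ZMod p) V)) - 1 := by
  set a := Module.finrank (ZMod p) W
  set b := Module.finrank (ZMod p) (W ⊓ fix σ : Submodule (ZMod p) V)
  have hba : b ≤ a := Submodule.finrank_mono inf_le_left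
  let π : Equiv.Perm W := σ.toEquiv.subtypeEquiv (fun w => (apply_mem_iff hW w).symm)
  have hπk : ∀ (k : ℕ) (x : W), (((π ^ k) x : W) : V) = (σ ^ k) x := by
    intro k
    induction k with
    | zero => intro x; rfl
    | succ k ih =>
      intro x
      rw [pow_succ', pow_succ', Equiv.Perm.mul_apply]
      show σ (((π ^ k) x : W) : V) = σ ((σ ^ k) x)
      rw [ih]
  have hπ : π ^ s = 1 := Equiv.ext fun x => Subtype.ext (by rw [hπk, hσ]; rfl)
  have h := modEq_card_fixed π hs hπ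
  have e : Nat.card {x : W // π x = x} = Nat.card (W ⊓ fix σ : Submodule (ZMod p) V) := Nat.card_congr
    { toFun := fun x => ⟨x.1, x.1.2, congrArg Subtype.val x.2⟩
      invFun := fun x => ⟨⟨x, x.2.1⟩, Subtype.ext x.2.2⟩
      left_inv := fun x => rfl
      right_inv := fun x => rfl }
  rw [e, Module.natCard_eq_pow_finrank (K := ZMod p), Module.natCard_eq_pow_finrank (K := ZMod p)
    (V := (W ⊓ fix σ : Submodule (ZMod p) V)), Nat.card_zmod] at h
  have h2 := (Nat.modEq_iff_dvd' (Nat.pow_le_pow_right hp.out.pos hba)).1 h.symm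
  rw [show p ^ a - p ^ b = p ^ b * (p ^ (a - b) - 1) by
    rw [Nat.mul_sub, mul_one, ← pow_add, Nat.add_sub_cancel' hba]] at h2
  exact (((Nat.coprime_primes hs hp.out).2 hsp).pow_right b).dvd_of_dvd_mul_left h2

/-- An element of order a primitive prime divisor of `p ^ j - 1` fixes invariant subspaces of
dimension less than `j` pointwise. -/
theorem fixed_of_invariant {σ : V ≃ₗ[ZMod p] V} {s j : ℕ} (h : Prim p s j) (hσ : σ ^ s = 1)
    (W : Submodule (ZMod p) V) (hW : ∀ w ∈ W, σ w ∈ W) (hd : Module.finrank (ZMod p) W < j) :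
    W ≤ fix σ := by
  have h1 := dvd_sub_fixed h.1 (h.ne_char (by omega)) hσ W hW
  have h2 := h.dvd_of_dvd (by omega) h1
  have h3 : Module.finrank (ZMod p) W - Module.finrank (ZMod p) (W ⊓ fix σ : Submodule (ZMod p) V) = 0 :=
    Nat.eq_zero_of_dvd_of_lt h2 (by omega)
  have h4 : (W ⊓ fix σ) = W := Submodule.eq_of_le_of_finrank_le inf_le_left (by omega)
  exact h4 ▸ inf_le_right

theorem finrank_fix {σ : V ≃ₗ[ZMod p] V} {s j : ℕ} (h : Prim p s j) (hσ : σ ^ s = 1) (hne : σ ≠ 1)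
    (hjn : Module.finrank (ZMod p) V < 2 * j) :
    Module.finrank (ZMod p) (fix σ) + j = Module.finrank (ZMod p) V := by
  have h1 := dvd_sub_fixed h.1 (h.ne_char (by omega)) hσ ⊤ (fun w _ => Submodule.mem_top)
  rw [top_inf_eq, finrank_top] at h1
  have h2 := h.dvd_of_dvd (by omega) h1
  have h3 := Submodule.finrank_lt (fix_ne_top hne)
  obtain ⟨c, hc⟩ := h2
  have hc1 : c = 1 := by
    rcases c with _ | _ | c
    · omega
    · rfl
    · have : j * 2 ≤ j * (c + 1 + 1) := Nat.mul_le_mul_left _ (by omega)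
      omega
  subst hc1
  omega

theorem eq_bot_or_top {σ : V ≃ₗ[ZMod p] V} {s : ℕ} (h : Prim p s (Module.finrank (ZMod p) V))
    (hn : Module.finrank (ZMod p) V ≠ 0) (hσ : σ ^ s = 1) (hne : σ ≠ 1)
    (W : Submodule (ZMod p) V) (hW : ∀ w ∈ W, σ w ∈ W) : W = ⊥ ∨ W = ⊤ := by
  by_cases ht : W = ⊤
  · exact Or.inr ht
  · left
    have h0 := finrank_fix h hσ hne (by omega)
    have h1 := Submodule.finrank_mono (fixed_of_invariant h hσ W hW (Submodule.finrank_lt ht))
    exact Submodule.finrank_eq_zero.1 (by omega)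

/-- The centraliser of an irreducible map. -/
abbrev centAlg (σ : V ≃ₗ[ZMod p] V) : Subalgebra (ZMod p) (Module.End (ZMod p) V) :=
  Subalgebra.centralizer (ZMod p) ({lin σ} : Set (Module.End (ZMod p) V))

theorem mem_centAlg {σ : V ≃ₗ[ZMod p] V} {x : Module.End (ZMod p) V} :
    x ∈ centAlg σ ↔ ∀ v, σ (x v) = x (σ v) := by
  refine ⟨fun h v => LinearMap.congr_fun (h (lin σ) rfl) v, fun h y hy => ?_⟩
  rw [Set.mem_singleton_iff.1 hy]
  exact LinearMap.ext h

variable {σ : V ≃ₗ[ZMod p] V}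

theorem centAlg_injective (hirr : ∀ W : Submodule (ZMod p) V, (∀ w ∈ W, σ w ∈ W) → W = ⊥ ∨ W = ⊤)
    {x : Module.End (ZMod p) V} (hx : x ∈ centAlg σ) (h0 : x ≠ 0) : Function.Injective x := by
  rw [← LinearMap.ker_eq_bot]
  refine (hirr (LinearMap.ker x) fun w hw => ?_).resolve_right fun h => h0 (LinearMap.ker_eq_top.1 h)
  rw [LinearMap.mem_ker, ← mem_centAlg.1 hx, LinearMap.mem_ker.1 hw, map_zero]

theorem centAlg_surj (hirr : ∀ W : Submodule (ZMod p) V, (∀ w ∈ W, σ w ∈ W) → W = ⊥ ∨ W = ⊤)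
    {v0 : V} (hv0 : v0 ≠ 0) (v : V) :
    ∃ x ∈ Algebra.adjoin (ZMod p) ({lin σ} : Set (Module.End (ZMod p) V)), x v0 = v := by
  set A := Algebra.adjoin (ZMod p) ({lin σ} : Set (Module.End (ZMod p) V))
  let f : A →ₗ[ZMod p] V := (LinearMap.applyₗ v0).comp A.val.toLinearMap
  have : LinearMap.range f = ⊤ := by
    refine (hirr _ ?_).resolve_left fun h => ?_
    · rintro _ ⟨x, rfl⟩
      exact ⟨⟨lin σ, Algebra.subset_adjoin rfl⟩ * x, rfl⟩
    · exact hv0 ((Submodule.mem_bot (ZMod p)).1 (h ▸ LinearMap.mem_range.2 ⟨1, rfl⟩))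
  obtain ⟨x, hx⟩ := LinearMap.range_eq_top.1 this v
  exact ⟨x, x.2, hx⟩

theorem centAlg_comm (hirr : ∀ W : Submodule (ZMod p) V, (∀ w ∈ W, σ w ∈ W) → W = ⊥ ∨ W = ⊤) :
    ∀ x ∈ centAlg σ, ∀ y ∈ centAlg σ, x * y = y * x := by
  have hsub : ∀ z ∈ Algebra.adjoin (ZMod p) ({lin σ} : Set (Module.End (ZMod p) V)), ∀ x ∈ centAlg σ,
      z * x = x * z := by
    intro z hz x hx
    induction hz using Algebra.adjoin_induction with
    | mem z hz => exact hx z hz
    | algebraMap r => exact Algebra.commutes r x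
    | add a b _ _ ea eb => rw [add_mul, mul_add, ea, eb]
    | mul a b _ _ ea eb => rw [mul_assoc, eb, ← mul_assoc, ea, mul_assoc]
  intro x hx y hy
  refine LinearMap.ext fun v => ?_
  rcases eq_or_ne v 0 with rfl | hv
  · simp
  obtain ⟨z, hz, hzv⟩ := centAlg_surj hirr hv (y v)
  have e : y = z := by
    refine LinearMap.ext fun w => ?_
    obtain ⟨u, hu, rfl⟩ := centAlg_surj hirr hv w
    rw [← Module.End.mul_apply, ← hsub u hu y hy, Module.End.mul_apply, ← hzv, ← Module.End.mul_apply,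
      hsub u hu z (fun a ha => (hsub z hz a (by
        rw [Set.mem_singleton_iff.1 ha]; exact mem_centAlg.2 fun v => rfl)).symm), Module.End.mul_apply]
  rw [e, hsub z hz x hx]

/-- Coordinates for a group whose conjugates of an irreducible element commute with it. -/
theorem coords_of_irreducible {n : ℕ} (hn : n ≠ 0) (hcard : Nat.card V = p ^ n)
    (hirr : ∀ W : Submodule (ZMod p) V, (∀ w ∈ W, σ w ∈ W) → W = ⊥ ∨ W = ⊤)
    (H : Subgroup (V ≃ₗ[ZMod p] V)) (hH : ∀ h ∈ H, h * σ * h⁻¹ * σ = σ * (h * σ * h⁻¹)) :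
    Nonempty (Coords n H (centAlg σ)) := by
  haveI : Nontrivial V := by
    rw [← Finite.one_lt_card_iff_nontrivial, hcard]
    exact Nat.one_lt_pow hn hp.out.one_lt
  obtain ⟨v0, hv0⟩ := exists_ne (0 : V)
  refine exists_coords hn hcard H _ (centAlg_comm hirr) (v0 := v0) (fun x hx h0 => ?_)
    (fun x hx h0 => centAlg_injective hirr hx h0) (fun v => ?_) (fun h hh x hx => ?_)
  · by_contra hne
    exact hv0 (centAlg_injective hirr hx hne (h0.trans (map_zero x).symm))
  · obtain ⟨x, hx, hxv⟩ := centAlg_surj hirr hv0 v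
    refine ⟨x, ?_, hxv⟩
    exact Algebra.adjoin_le (fun a ha => mem_centAlg.2 fun v => by rw [Set.mem_singleton_iff.1 ha]; rfl) hx
  · have hirr' : ∀ W : Submodule (ZMod p) V, (∀ w ∈ W, (h * σ * h⁻¹) w ∈ W) → W = ⊥ ∨ W = ⊤ := by
      intro W hW
      have := hirr (W.comap (lin h)) fun w hw => by
        have := hW _ hw
        show h (σ w) ∈ W
        simpa [LinearEquiv.mul_apply] using this
      rcases this with e | e
      · left
        rw [Submodule.eq_bot_iff]
        intro w hw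
        have h2 : h.symm w ∈ W.comap (lin h) := by simpa using hw
        rw [e, Submodule.mem_bot, LinearEquiv.map_eq_zero_iff] at h2
        exact h2
      · right
        rw [Submodule.eq_top_iff']
        intro w
        have h2 : h.symm w ∈ W.comap (lin h) := e ▸ Submodule.mem_top
        simpa using h2
    refine mem_centAlg.2 fun v => ?_
    have hσ' : lin σ ∈ centAlg (h * σ * h⁻¹) := mem_centAlg.2 fun v => DFunLike.congr_fun (hH h hh) v
    have hx' : (h : V ≃ₗ[ZMod p] V).conjAlgEquiv (ZMod p) x ∈ centAlg (h * σ * h⁻¹) := mem_centAlg.2 fun v => by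
      show h (σ (h.symm (h (x (h.symm v))))) = h (x (h.symm (h (σ (h.symm v)))))
      rw [LinearEquiv.symm_apply_apply, LinearEquiv.symm_apply_apply, mem_centAlg.1 hx]
    exact LinearMap.congr_fun (centAlg_comm hirr' _ hσ' _ hx') v

end CfsgLib.ClassSizes.SolvAutomizer
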