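import Cfsg.Agent.Lib.ClassSizes.SolvAutomizer.Fixed
import Cfsg.Agent.Lib.Core.Hall

/-!
# Two primitive primes in a solvable linear group
-/

set_option autoImplicit false
set_option linter.all false

namespace CfsgLib.ClassSizes.SolvAutomizer

variable {p : ℕ} [hp : Fact p.Prime] {V : Type*} [AddCommGroup V] [Module (ZMod p) V] [Finite V]

/-- A nontrivial solvable group has an abelian normal subgroup of prime exponent. -/
theorem exists_normal_elementary {G : Type*} [Group G] [Finite G] [Group.IsSolvable G] [Nontrivial G] :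
    ∃ (q : ℕ) (M : Subgroup G), q.Prime ∧ q ∣ Nat.card G ∧ M.Normal ∧
      (∀ a ∈ M, ∀ b ∈ M, a * b = b * a) ∧ (∀ a ∈ M, a ^ q = 1) ∧ ∃ a ∈ M, a ≠ 1 := by
  classical
  have hex : ∃ k, derivedSeries G k = ⊥ := Group.IsSolvable.solvable
  obtain ⟨k, hk, hmin⟩ : ∃ k, derivedSeries G (k + 1) = ⊥ ∧ derivedSeries G k ≠ ⊥ := by
    have h0 := Nat.find_spec hex
    rcases h : Nat.find hex with _ | k
    · rw [h, derivedSeries_zero] at h0
      exact absurd h0 (top_ne_bot)
    · exact ⟨k, h ▸ h0, Nat.find_min hex (by omega)⟩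
  set A := derivedSeries G k
  have hab : ∀ a ∈ A, ∀ b ∈ A, a * b = b * a := fun a ha b hb => by
    have := Subgroup.commutator_mem_commutator ha hb
    rw [derivedSeries_succ] at hk
    rw [hk, Subgroup.mem_bot, commutatorElement_eq_one_iff_mul_comm] at this
    exact this
  have : Nontrivial A := (Subgroup.nontrivial_iff_ne_bot A).2 hmin
  obtain ⟨q, hq, hqd⟩ := Nat.exists_prime_and_dvd (Finite.one_lt_card (α := A)).ne'
  have := Fact.mk hq
  obtain ⟨a, ha⟩ := exists_prime_orderOf_dvd_card' (G := A) q hqd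
  let M : Subgroup G :=
    { carrier := {x | x ∈ A ∧ x ^ q = 1}
      one_mem' := ⟨A.one_mem, one_pow q⟩
      mul_mem' := fun {x y} hx hy => ⟨A.mul_mem hx.1 hy.1, by
        rw [(show Commute x y from hab _ hx.1 _ hy.1).mul_pow, hx.2, hy.2, one_mul]⟩
      inv_mem' := fun {x} hx => ⟨A.inv_mem hx.1, by rw [inv_pow, hx.2, inv_one]⟩ }
  refine ⟨q, M, hq, hqd.trans (Subgroup.card_subgroup_dvd_card A), ⟨fun x hx g => ⟨?_, ?_⟩⟩,
    fun x hx y hy => hab _ hx.1 _ hy.1, fun x hx => hx.2, (a : G), ⟨a.2, ?_⟩, fun e => ?_⟩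
  · exact (derivedSeries_normal G k).conj_mem _ hx.1 g
  · rw [conj_pow, hx.2, mul_one, mul_inv_cancel]
  · rw [← Subgroup.coe_pow, ← ha, pow_orderOf_eq_one, Subgroup.coe_one]
  · rw [show a = 1 from Subtype.ext e, orderOf_one] at ha
    exact hq.one_lt.ne ha

variable {n s t j : ℕ}

theorem pair_dvd_aux (hn : Module.finrank (ZMod p) V = n) (H : Subgroup (V ≃ₗ[ZMod p] V))
    [Group.IsSolvable H] (hprimes : ∀ q : ℕ, q.Prime → q ∣ Nat.card H → q = s ∨ q = t)
    (hs : Prim p s n) (ht : Prim p t j) (hjn : j < n) (h2j : n < 2 * j)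
    (hsH : s ∣ Nat.card H) (htH : t ∣ Nat.card H) : t ∣ n := by
  have := Fact.mk hs.1
  have := Fact.mk ht.1
  haveI : Finite (V ≃ₗ[ZMod p] V) := Finite.of_injective _ DFunLike.coe_injective
  obtain ⟨σ, hσ⟩ := exists_prime_orderOf_dvd_card' (G := H) s hsH
  obtain ⟨τ, hτ⟩ := exists_prime_orderOf_dvd_card' (G := H) t htH
  have hσ' : orderOf (σ : V ≃ₗ[ZMod p] V) = s := by rw [Subgroup.orderOf_coe, hσ]
  have hτ' : orderOf (τ : V ≃ₗ[ZMod p] V) = t := by rw [Subgroup.orderOf_coe, hτ]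
  have hne : ∀ {x : V ≃ₗ[ZMod p] V} {q : ℕ}, q.Prime → orderOf x = q → x ^ q = 1 ∧ x ≠ 1 :=
    fun {x q} hq h => ⟨h ▸ pow_orderOf_eq_one x, fun e => by
      rw [e, orderOf_one] at h; exact hq.one_lt.ne h⟩
  have hirr : ∀ x : V ≃ₗ[ZMod p] V, orderOf x = s →
      ∀ W : Submodule (ZMod p) V, (∀ w ∈ W, x w ∈ W) → W = ⊥ ∨ W = ⊤ := fun x hx =>
    eq_bot_or_top (s := s) (hn ▸ hs) (by omega) (hne hs.1 hx).1 (hne hs.1 hx).2
  have hfix : ∀ x : V ≃ₗ[ZMod p] V, orderOf x = t → Module.finrank (ZMod p) (fix x) + j = n := fun x hx => by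
    rw [← hn]
    exact finrank_fix ht (hne ht.1 hx).1 (hne ht.1 hx).2 (by omega)
  haveI : Nontrivial H := ⟨⟨σ, 1, fun e => by rw [e, orderOf_one] at hσ; exact hs.1.one_lt.ne hσ⟩⟩
  obtain ⟨q, M, hq, hqH, hMn, hMab, hMq, ρ, hρM, hρ1⟩ := exists_normal_elementary (G := H)
  have hord : ∀ m ∈ M, m ≠ 1 → orderOf (m : V ≃ₗ[ZMod p] V) = q := fun m hm h1 => by
    rw [Subgroup.orderOf_coe]
    have := Fact.mk hq
    exact orderOf_eq_prime (hMq m hm) h1
  rcases hprimes q hq hqH with hqs | hqt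
  · rw [hqs] at hord
    have hρo := hord ρ hρM hρ1
    obtain ⟨C⟩ := coords_of_irreducible (n := n) (by omega)
      (by rw [Module.natCard_eq_pow_finrank (K := ZMod p), Nat.card_zmod, hn]) (hirr _ hρo) H fun h hh => by
        have := hMab _ (hMn.conj_mem ρ hρM ⟨h, hh⟩) ρ hρM
        exact congrArg Subtype.val this
    rw [← hτ]
    refine C.orderOf_dvd_of_notMem (by omega) (by rw [hτ]; exact ht.1) fun hK => ?_
    have h1 := hfix _ hτ'
    rcases hirr _ hρo (fix (τ : V ≃ₗ[ZMod p] V)) (fun w hw => mem_fix.2 (by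
      have := mem_centAlg.1 hK w
      change (ρ : V ≃ₗ[ZMod p] V) ((τ : V ≃ₗ[ZMod p] V) w) = (τ : V ≃ₗ[ZMod p] V) ((ρ : V ≃ₗ[ZMod p] V) w) at this
      rw [← this, mem_fix.1 hw])) with e | e
    · rw [e, finrank_bot] at h1; omega
    · rw [e, finrank_top] at h1; omega
  · exfalso
    rw [hqt] at hord
    have hρo := hord ρ hρM hρ1
    let U : Submodule (ZMod p) V := ⨅ m : M, fix ((m : H) : V ≃ₗ[ZMod p] V)
    have hsub : fix (ρ : V ≃ₗ[ZMod p] V) ≤ U := by
      refine le_iInf fun m => ?_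
      rcases eq_or_ne (m : H) 1 with h1 | h1
      · intro v _
        rw [h1]
        exact mem_fix.2 rfl
      · refine fixed_of_invariant ht (hne ht.1 (hord _ m.2 h1)).1 _ (fun w hw => mem_fix.2 ?_)
          (by have := hfix _ hρo; omega)
        have := congrArg (fun x : H => (x : V ≃ₗ[ZMod p] V) w) (hMab ρ hρM _ m.2)
        simp only [Subgroup.coe_mul, LinearEquiv.mul_apply] at this
        rw [this, mem_fix.1 hw]
    have hU : ∀ w ∈ U, (σ : V ≃ₗ[ZMod p] V) w ∈ U := by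
      intro w hw
      simp only [U, Submodule.mem_iInf] at hw ⊢
      intro m
      refine mem_fix.2 ?_
      have h1 := mem_fix.1 (hw ⟨_, hMn.conj_mem _ m.2 σ⁻¹⟩)
      simp only [inv_inv] at h1
      have h2 := congrArg (σ : V ≃ₗ[ZMod p] V) h1
      simp only [Subgroup.coe_mul, Subgroup.coe_inv, LinearEquiv.mul_apply] at h2
      rwa [← LinearEquiv.mul_apply (σ : V ≃ₗ[ZMod p] V) (σ : V ≃ₗ[ZMod p] V)⁻¹, mul_inv_cancel,
        show ∀ v, (1 : V ≃ₗ[ZMod p] V) v = v from fun v => rfl] at h2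
    have hd := hfix _ hρo
    rcases hirr _ hσ' U hU with e | e
    · have := Submodule.finrank_mono hsub
      rw [e, finrank_bot] at this
      omega
    · refine (hne ht.1 hρo).2 (LinearEquiv.ext fun v => ?_)
      have hv : v ∈ U := e ▸ Submodule.mem_top
      exact mem_fix.1 ((Submodule.mem_iInf _).1 hv ⟨ρ, hρM⟩)

/-- The Hall subgroup for two primes. -/
theorem exists_two_prime_subgroup (X : Subgroup (V ≃ₗ[ZMod p] V)) [Group.IsSolvable X] (hst : s ≠ t)
    (hs : s.Prime) (ht : t.Prime) :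
    ∃ H : Subgroup (V ≃ₗ[ZMod p] V), H ≤ X ∧ Group.IsSolvable H ∧
      (∀ q : ℕ, q.Prime → q ∣ Nat.card H → q = s ∨ q = t) ∧
      (s ∣ Nat.card X → s ∣ Nat.card H) ∧ (t ∣ Nat.card X → t ∣ Nat.card H) := by
  haveI : Finite (V ≃ₗ[ZMod p] V) := Finite.of_injective _ DFunLike.coe_injective
  set N := Nat.card X
  have hN : N ≠ 0 := Nat.card_pos.ne'
  set a := N.factorization s
  set b := N.factorization t
  have hd : s ^ a * t ^ b ∣ N :=
    Nat.Coprime.mul_dvd_of_dvd_of_dvd (Nat.Coprime.pow _ _ ((Nat.coprime_primes hs ht).2 hst))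
      (Nat.ordProj_dvd N s) (Nat.ordProj_dvd N t)
  obtain ⟨k, hk⟩ := hd
  have hndvd : ∀ q : ℕ, q.Prime → (q = s ∨ q = t) → ¬ q ∣ k := by
    intro q hq hqq hqk
    have h1 : q ^ (N.factorization q + 1) ∣ N := by
      have h0 : q ^ N.factorization q ∣ s ^ a * t ^ b := by
        rcases hqq with e | e <;> rw [e]
        · exact Dvd.intro _ rfl
        · exact Dvd.intro_left _ rfl
      calc q ^ (N.factorization q + 1) = q ^ N.factorization q * q := pow_succ _ _
        _ ∣ s ^ a * t ^ b * k := mul_dvd_mul h0 hqk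
        _ = N := hk.symm
    exact Nat.pow_succ_factorization_not_dvd hN hq h1
  have hcop : (s ^ a * t ^ b).Coprime k := Nat.Coprime.mul_left
    (((hs.coprime_iff_not_dvd).2 (hndvd s hs (Or.inl rfl))).pow_left a)
    (((ht.coprime_iff_not_dvd).2 (hndvd t ht (Or.inr rfl))).pow_left b)
  obtain ⟨Y, hY⟩ := CfsgLib.Core.exists_subgroup_card_eq (G := X) hk hcop
  have hc : Nat.card (Y.map X.subtype) = s ^ a * t ^ b := by
    rw [← Nat.card_congr (Y.equivMapOfInjective X.subtype X.subtype_injective).toEquiv, hY]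
  refine ⟨Y.map X.subtype, Subgroup.map_subtype_le Y,
    solvable_of_surjective (f := (Y.equivMapOfInjective X.subtype X.subtype_injective).toMonoidHom)
      (MulEquiv.surjective _), fun q hq hqd => ?_, fun h => ?_, fun h => ?_⟩
  · rw [hc] at hqd
    rcases (Nat.Prime.dvd_mul hq).1 hqd with h | h
    · exact Or.inl ((Nat.prime_dvd_prime_iff_eq hq hs).1 (hq.dvd_of_dvd_pow h))
    · exact Or.inr ((Nat.prime_dvd_prime_iff_eq hq ht).1 (hq.dvd_of_dvd_pow h))
  · rw [hc]
    exact dvd_mul_of_dvd_left (dvd_pow_self s (hs.factorization_pos_of_dvd hN h).ne') _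
  · rw [hc]
    exact dvd_mul_of_dvd_right (dvd_pow_self t (ht.factorization_pos_of_dvd hN h).ne') _

theorem pair_dvd (hn : Module.finrank (ZMod p) V = n) (X : Subgroup (V ≃ₗ[ZMod p] V))
    [Group.IsSolvable X] (hs : Prim p s n) (ht : Prim p t j) (hjn : j < n) (h2j : n < 2 * j)
    (hsX : s ∣ Nat.card X) (htX : t ∣ Nat.card X) : t ∣ n := by
  have hst : s ≠ t := fun e => hs.2.2 j (by omega) hjn (e ▸ ht.2.1)
  obtain ⟨H, -, hsol, hpr, h1, h2⟩ := exists_two_prime_subgroup X hst hs.1 ht.1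
  exact pair_dvd_aux hn H hpr hs ht hjn h2j (h1 hsX) (h2 htX)

/-- Consequently `j = n - 1` and `n` is prime. -/
theorem pair_eq (hn : Module.finrank (ZMod p) V = n) (X : Subgroup (V ≃ₗ[ZMod p] V))
    [Group.IsSolvable X] (hs : Prim p s n) (ht : Prim p t j) (hjn : j < n) (h2j : n < 2 * j)
    (hsX : s ∣ Nat.card X) (htX : t ∣ Nat.card X) : n.Prime ∧ j + 1 = n := by
  obtain ⟨c, hc⟩ := pair_dvd hn X hs ht hjn h2j hsX htX
  obtain ⟨d, hd⟩ := ht.modEq_one (by omega)
  have h2 := ht.1.two_le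
  have hd0 : d ≠ 0 := fun e => by subst e; omega
  have htj : j + 1 ≤ t := by
    have : j * 1 ≤ j * d := Nat.mul_le_mul_left _ (by omega)
    omega
  have hc1 : c = 1 := by
    rcases c with _ | _ | c
    · omega
    · rfl
    · have : t * 2 ≤ t * (c + 1 + 1) := Nat.mul_le_mul_left _ (by omega)
      omega
  subst hc1
  refine ⟨by rw [hc, mul_one]; exact ht.1, ?_⟩
  have hd1 : d = 1 := by
    rcases d with _ | _ | d
    · omega
    · rfl
    · have : j * 2 ≤ j * (d + 1 + 1) := Nat.mul_le_mul_left _ (by omega)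
      omega
  subst hd1
  omega

end CfsgLib.ClassSizes.SolvAutomizer
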