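import Cfsg.Agent.Lib.ClassSizes.SolvAutomizer.ScalarCase
import Cfsg.Agent.Lib.ClassSizes.SolvAutomizer.PairPrimes
import Cfsg.Agent.Lib.LocalEven.Zsigmondy

/-!
# Solvable linear groups transitive on the subspaces of each dimension
-/

set_option autoImplicit false
set_option linter.all false

namespace CfsgLib.ClassSizes.SolvAutomizer

variable {p : ℕ} [hp : Fact p.Prime] {V : Type*} [AddCommGroup V] [Module (ZMod p) V] [Finite V]

/-- Transitivity on subspaces of each dimension. -/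
def Trans (X : Subgroup (V ≃ₗ[ZMod p] V)) : Prop :=
  ∀ W W' : Submodule (ZMod p) V, Module.finrank (ZMod p) W = Module.finrank (ZMod p) W' →
    ∃ h ∈ X, W.map (lin h) = W'

/-- The number of independent tuples, the orbit of subspaces and the stabiliser. -/
theorem count (X : Subgroup (V ≃ₗ[ZMod p] V)) (htr : Trans X) {n k : ℕ}
    (hn : Module.finrank (ZMod p) V = n) (hk : k ≤ n) (hk0 : k ≠ 0) :
    ∃ N S : ℕ, ∏ i : Fin k, (p ^ n - p ^ (i : ℕ)) = N * ∏ i : Fin k, (p ^ k - p ^ (i : ℕ)) ∧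
      N * S = Nat.card X ∧ ((∃ h ∈ X, h ≠ 1 ∧ ∃ c : ZMod p, ∀ v, h v = c • v) → 2 ≤ S) := by
  classical
  haveI : Finite (V ≃ₗ[ZMod p] V) := Finite.of_injective _ DFunLike.coe_injective
  haveI : Finite (Submodule (ZMod p) V) := Finite.of_injective _ SetLike.coe_injective
  let Ω := {W : Submodule (ZMod p) V // Module.finrank (ZMod p) W = k}
  letI act : MulAction X Ω :=
    { smul := fun h W => ⟨W.1.map (lin (h : V ≃ₗ[ZMod p] V)), by
        rw [LinearEquiv.finrank_map_eq (h : V ≃ₗ[ZMod p] V) W.1, W.2]⟩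
      one_smul := fun W => Subtype.ext (Submodule.map_id W.1)
      mul_smul := fun a b W => Subtype.ext (Submodule.map_comp (lin (b : V ≃ₗ[ZMod p] V)) (lin (a : V ≃ₗ[ZMod p] V)) W.1) }
  haveI : MulAction.IsPretransitive X Ω := ⟨fun W W' => by
    obtain ⟨h, hh, e⟩ := htr W.1 W'.1 (W.2.trans W'.2.symm)
    exact ⟨⟨h, hh⟩, Subtype.ext e⟩⟩
  obtain ⟨v, hv⟩ := exists_linearIndependent_of_le_finrank (R := ZMod p) (M := V) (hn ▸ hk)
  let W0 : Ω := ⟨Submodule.span (ZMod p) (Set.range v), by rw [finrank_span_eq_card hv, Fintype.card_fin]⟩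
  have hΩ : (MulAction.stabilizer X W0).index = Nat.card Ω :=
    MulAction.index_stabilizer_of_transitive X W0
  have hsig : Nat.card {s : Fin k → V // LinearIndependent (ZMod p) s} =
      Nat.card (Σ W : Ω, {t : Fin k → W.1 // LinearIndependent (ZMod p) t}) := by
    refine (Nat.card_congr (Equiv.ofBijective
      (fun x : Σ W : Ω, {t : Fin k → W.1 // LinearIndependent (ZMod p) t} =>
        (⟨fun i => (x.2.1 i : V), x.2.2.map' x.1.1.subtype (Submodule.ker_subtype _)⟩ :
          {s : Fin k → V // LinearIndependent (ZMod p) s})) ⟨?_, ?_⟩)).symm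
    · rintro ⟨W, t, ht⟩ ⟨W', t', ht'⟩ e
      have e1 : ∀ i, (t i : V) = t' i := fun i => congrFun (congrArg Subtype.val e) i
      have hsp : ∀ (W : Ω) (t : Fin k → W.1), LinearIndependent (ZMod p) t →
          Submodule.span (ZMod p) (Set.range fun i => (t i : V)) = W.1 := fun W t ht => by
        refine Submodule.eq_of_le_of_finrank_le ?_ ?_
        · rw [Submodule.span_le]; rintro _ ⟨i, rfl⟩; exact (t i).2
        · rw [finrank_span_eq_card (b := fun i => (t i : V)) (ht.map' W.1.subtype (Submodule.ker_subtype _)), Fintype.card_fin, W.2]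
      obtain rfl : W = W' := Subtype.ext (by rw [← hsp W t ht, ← hsp W' t' ht']; simp only [e1])
      obtain rfl : t = t' := funext fun i => Subtype.ext (e1 i)
      rfl
    · rintro ⟨s, hs⟩
      refine ⟨⟨⟨Submodule.span (ZMod p) (Set.range s), by rw [finrank_span_eq_card hs, Fintype.card_fin]⟩,
        ⟨fun i => ⟨s i, Submodule.subset_span ⟨i, rfl⟩⟩, ?_⟩⟩, rfl⟩
      exact LinearIndependent.of_comp (Submodule.subtype _) hs
  refine ⟨Nat.card Ω, Nat.card (MulAction.stabilizer X W0), ?_, ?_, ?_⟩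
  · haveI : Fintype Ω := Fintype.ofFinite _
    have h1 : Nat.card {s : Fin k → V // LinearIndependent (ZMod p) s} =
        ∏ i : Fin k, (p ^ n - p ^ (i : ℕ)) := by
      rw [card_linearIndependent (hn ▸ hk)]
      simp only [ZMod.card, hn]
    rw [← h1, hsig, Nat.card_sigma, Finset.sum_eq_card_nsmul (b := ∏ i : Fin k, (p ^ k - p ^ (i : ℕ))),
      smul_eq_mul, Finset.card_univ, Nat.card_eq_fintype_card]
    intro W _
    rw [card_linearIndependent W.2.ge]
    simp only [ZMod.card, W.2]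
  · rw [← hΩ, mul_comm, Subgroup.card_mul_index]
  · rintro ⟨h, hh, hne, c, hc⟩
    haveI : Nontrivial (MulAction.stabilizer X W0) := by
      refine ⟨⟨⟨⟨h, hh⟩, ?_⟩, 1, fun e => hne (congrArg (fun x : MulAction.stabilizer X W0 => ((x : X) : V ≃ₗ[ZMod p] V)) e)⟩⟩
      refine MulAction.mem_stabilizer_iff.2 (Subtype.ext ?_)
      refine Submodule.eq_of_le_of_finrank_le ?_ ?_
      · rintro _ ⟨w, hw, rfl⟩
        show h w ∈ W0.1
        rw [hc]
        exact Submodule.smul_mem _ _ hw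
      · exact (LinearEquiv.finrank_map_eq h W0.1).ge
    exact Finite.one_lt_card

theorem prime_dvd_card (X : Subgroup (V ≃ₗ[ZMod p] V)) (htr : Trans X) {n k j t : ℕ}
    (hn : Module.finrank (ZMod p) V = n) (hk : k ≤ n) (ht : Prim p t j) (hkj : k < j) (hjn : j ≤ n)
    (hnjk : n < j + k) : t ∣ Nat.card X := by
  obtain ⟨N, S, h1, h2, -⟩ := count X htr hn hk (by omega)
  have htp := ht.ne_char (by omega)
  have hd : t ∣ ∏ i : Fin k, (p ^ n - p ^ (i : ℕ)) := by
    refine dvd_trans ?_ (Finset.dvd_prod_of_mem _ (Finset.mem_univ (⟨n - j, by omega⟩ : Fin k)))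
    show t ∣ p ^ n - p ^ (n - j)
    rw [show p ^ n - p ^ (n - j) = p ^ (n - j) * (p ^ j - 1) by
      rw [Nat.mul_sub, mul_one, ← pow_add, Nat.sub_add_cancel hjn]]
    exact dvd_mul_of_dvd_right ht.2.1 _
  rw [h1] at hd
  rcases ht.1.dvd_mul.1 hd with h | h
  · exact h2 ▸ dvd_mul_of_dvd_left h S
  · exfalso
    obtain ⟨i, -, hi⟩ := (Prime.dvd_finsetProd_iff ht.1.prime _).1 h
    rw [show p ^ k - p ^ (i : ℕ) = p ^ (i : ℕ) * (p ^ (k - i) - 1) by
      rw [Nat.mul_sub, mul_one, ← pow_add, Nat.add_sub_cancel' i.2.le]] at hi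
    rcases ht.1.dvd_mul.1 hi with h3 | h3
    · exact htp ((Nat.prime_dvd_prime_iff_eq ht.1 hp.out).1 (ht.1.dvd_of_dvd_pow h3))
    · exact ht.2.2 (k - i) (Nat.sub_pos_of_lt i.2) (by omega) h3

theorem exists_prim (j : ℕ) (hj : 2 < j) (h6 : ¬ (p = 2 ∧ j = 6)) : ∃ t, Prim p t j := by
  obtain ⟨t, ht, h1, h2⟩ := CfsgLib.Zsigmondy.exists_primitive_prime_divisor hp.out.one_lt
    (by omega : 1 < j) h6 (fun h => by omega)
  exact ⟨t, ht, h1, h2⟩

theorem exists_commuting_of_fixed {G : Type*} [Group G] [Finite G] (M : Subgroup G) (hM : M.Normal)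
    {q l e : ℕ} (hq : q.Prime) (hl : l.Prime) (hMc : Nat.card M = q ^ e) (x : G) (hx : x ^ l = 1)
    (hord : ∀ i, 0 < i → i ≤ e → ¬ l ∣ q ^ i - 1) (hql : l ≠ q) :
    ∀ m ∈ M, x * m = m * x := by
  let π : Equiv.Perm M :=
    { toFun := fun m => ⟨x * m * x⁻¹, hM.conj_mem _ m.2 x⟩
      invFun := fun m => ⟨x⁻¹ * m * x, by simpa using hM.conj_mem _ m.2 x⁻¹⟩
      left_inv := fun m => Subtype.ext (by simp [mul_assoc])
      right_inv := fun m => Subtype.ext (by simp [mul_assoc]) }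
  have hπm : ∀ (k : ℕ) (m : M), (((π ^ k) m : M) : G) = x ^ k * m * (x ^ k)⁻¹ := by
    intro k
    induction k with
    | zero => intro m; simp
    | succ k ih =>
      intro m
      rw [pow_succ', Equiv.Perm.mul_apply]
      show x * (((π ^ k) m : M) : G) * x⁻¹ = _
      rw [ih, pow_succ']
      group
  have hmod := modEq_card_fixed π hl (Equiv.ext fun m => Subtype.ext (by rw [hπm, hx]; simp))
  let F : Subgroup M := (Subgroup.centralizer ({x} : Set G)).subgroupOf M
  have hF : Nat.card {m : M // π m = m} = Nat.card F := Nat.card_congr (Equiv.subtypeEquivRight fun m => by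
    rw [Subgroup.mem_subgroupOf, Subgroup.mem_centralizer_singleton_iff, Subtype.ext_iff]
    show x * (m : G) * x⁻¹ = m ↔ _
    rw [mul_inv_eq_iff_eq_mul]
    exact eq_comm)
  obtain ⟨f, hfe, hf⟩ := (Nat.dvd_prime_pow hq).1 (hMc ▸ F.card_subgroup_dvd_card)
  rw [hF, hMc, hf] at hmod
  have h2 := (Nat.modEq_iff_dvd' (Nat.pow_le_pow_right hq.pos hfe)).1 hmod.symm
  rw [show q ^ e - q ^ f = q ^ f * (q ^ (e - f) - 1) by
    rw [Nat.mul_sub, mul_one, ← pow_add, Nat.add_sub_cancel' hfe]] at h2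
  have h3 := (((Nat.coprime_primes hl hq).2 hql).pow_right f).dvd_of_dvd_mul_left h2
  have h4 : e - f = 0 := by
    by_contra h0
    exact hord (e - f) (by omega) (by omega) h3
  have hFtop : F = ⊤ := Subgroup.eq_top_of_card_eq F (by rw [hf, hMc, show e = f by omega])
  intro m hm
  have h5 : (⟨m, hm⟩ : M) ∈ F := hFtop.ge (Subgroup.mem_top _)
  rw [Subgroup.mem_subgroupOf, Subgroup.mem_centralizer_singleton_iff] at h5
  exact h5.symm

/-- The case of dimension six over the field with two elements. -/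
theorem not_six_two {V : Type*} [AddCommGroup V] [Module (ZMod 2) V] [Finite V]
    (hn : Module.finrank (ZMod 2) V = 6) (X : Subgroup (V ≃ₗ[ZMod 2] V))
    [Group.IsSolvable X] (htr : Trans X) : False := by
  haveI : Finite (V ≃ₗ[ZMod 2] V) := Finite.of_injective _ DFunLike.coe_injective
  have h7 : Prim 2 7 3 := ⟨by norm_num, by norm_num, fun i h1 h2 => by interval_cases i <;> norm_num⟩
  have h31 : Prim 2 31 5 := ⟨by norm_num, by norm_num, fun i h1 h2 => by interval_cases i <;> norm_num⟩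
  have h31X := prime_dvd_card X htr (k := 2) hn (by norm_num) h31 (by norm_num) (by norm_num) (by norm_num)
  have h7X : 7 ∣ Nat.card X := by
    obtain ⟨N, S, h1, h2, -⟩ := count X htr hn (k := 2) (by norm_num) (by norm_num)
    rw [Fin.prod_univ_two, Fin.prod_univ_two] at h1
    norm_num at h1
    exact h2 ▸ dvd_mul_of_dvd_left (by omega) S
  obtain ⟨H, -, hsol, hpr, hd1, hd2⟩ := exists_two_prime_subgroup X (s := 7) (t := 31) (by norm_num) h7.1 h31.1
  haveI := Fact.mk h7.1
  haveI := Fact.mk h31.1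
  obtain ⟨σ, hσ⟩ := exists_prime_orderOf_dvd_card' (G := H) 7 (hd1 h7X)
  obtain ⟨τ, hτ⟩ := exists_prime_orderOf_dvd_card' (G := H) 31 (hd2 h31X)
  haveI : Nontrivial H := ⟨⟨σ, 1, fun e => by rw [e, orderOf_one] at hσ; norm_num at hσ⟩⟩
  have hcontra : ∀ a b : H, orderOf a = 7 → orderOf b = 31 → a * b = b * a → False := by
    intro a b ha hb hab
    have ha' : ((a : V ≃ₗ[ZMod 2] V)) ^ 7 = 1 ∧ (a : V ≃ₗ[ZMod 2] V) ≠ 1 := by
      refine ⟨by rw [← Subgroup.coe_pow, ← ha, pow_orderOf_eq_one, Subgroup.coe_one], fun e => ?_⟩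
      rw [show a = 1 from Subtype.ext e, orderOf_one] at ha
      norm_num at ha
    have hb' : ((b : V ≃ₗ[ZMod 2] V)) ^ 31 = 1 ∧ (b : V ≃ₗ[ZMod 2] V) ≠ 1 := by
      refine ⟨by rw [← Subgroup.coe_pow, ← hb, pow_orderOf_eq_one, Subgroup.coe_one], fun e => ?_⟩
      rw [show b = 1 from Subtype.ext e, orderOf_one] at hb
      norm_num at hb
    have hbd := finrank_fix h31 hb'.1 hb'.2 (by omega)
    have hc : ∀ w, (a : V ≃ₗ[ZMod 2] V) ((b : V ≃ₗ[ZMod 2] V) w) = (b : V ≃ₗ[ZMod 2] V) ((a : V ≃ₗ[ZMod 2] V) w) :=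
      fun w => congrArg (fun x : H => (x : V ≃ₗ[ZMod 2] V) w) hab
    have h1 : fix (b : V ≃ₗ[ZMod 2] V) ≤ fix (a : V ≃ₗ[ZMod 2] V) :=
      fixed_of_invariant h7 ha'.1 _ (fun w hw => mem_fix.2 (by rw [← hc, mem_fix.1 hw])) (by omega)
    have h2 := dvd_sub_fixed h7.1 (by norm_num) ha'.1 ⊤ (fun w _ => Submodule.mem_top)
    rw [top_inf_eq, finrank_top, hn] at h2
    have h3 := h7.dvd_of_dvd (by norm_num) h2
    have h4 := Submodule.finrank_lt (fix_ne_top ha'.2)
    have h5 := Submodule.finrank_mono h1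
    have h6 : fix (a : V ≃ₗ[ZMod 2] V) ≤ fix (b : V ≃ₗ[ZMod 2] V) :=
      fixed_of_invariant h31 hb'.1 _ (fun w hw => mem_fix.2 (by rw [hc, mem_fix.1 hw])) (by omega)
    have h7' := Submodule.finrank_mono h6
    omega
  obtain ⟨q, M, hq, hqH, hMn, hMab, hMq, ρ, hρM, hρ1⟩ := exists_normal_elementary (G := H)
  have hMp : IsPGroup q M := fun m => ⟨1, by rw [pow_one]; exact Subtype.ext (hMq m m.2)⟩
  haveI := Fact.mk hq
  obtain ⟨e, he⟩ := IsPGroup.iff_card.1 hMp
  have hρo : orderOf ρ = q := orderOf_eq_prime (hMq ρ hρM) hρ1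
  rcases hpr q hq hqH with rfl | rfl
  · -- a normal 7-group
    have he15 : e < 15 := by
      by_contra h
      haveI : Finite (Module.End (ZMod 2) V) := Finite.of_injective _ DFunLike.coe_injective
      have h1 : Nat.card M ≤ Nat.card (Module.End (ZMod 2) V) :=
        Nat.card_le_card_of_injective (fun m : M => lin ((m : H) : V ≃ₗ[ZMod 2] V)) fun a b e =>
          Subtype.ext (Subtype.ext (LinearEquiv.toLinearMap_injective e))
      rw [he, Module.natCard_eq_pow_finrank (K := ZMod 2) (V := Module.End (ZMod 2) V), Nat.card_zmod,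
        Module.finrank_linearMap, hn] at h1
      have h3 : 7 ^ 15 ≤ 7 ^ e := Nat.pow_le_pow_right (by norm_num) (by omega)
      have h4 : (2 : ℕ) ^ (6 * 6) < 7 ^ 15 := by norm_num
      omega
    have hτ1 : τ ^ 31 = 1 := hτ ▸ pow_orderOf_eq_one τ
    exact hcontra ρ τ hρo hτ (exists_commuting_of_fixed M hMn hq h31.1 he τ hτ1 (fun i h1 h2 => by
      have : i < 15 := by omega
      interval_cases i <;> norm_num) (by norm_num) ρ hρM).symm
  · -- a normal 31-group
    have hmo : ∀ m ∈ M, m ≠ 1 → Module.finrank (ZMod 2) (fix (m : V ≃ₗ[ZMod 2] V)) = 1 ∧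
        fix (ρ : V ≃ₗ[ZMod 2] V) ≤ fix (m : V ≃ₗ[ZMod 2] V) := by
      intro m hm h1
      have hm31 : (m : V ≃ₗ[ZMod 2] V) ^ 31 = 1 := by rw [← Subgroup.coe_pow, hMq m hm, Subgroup.coe_one]
      have hρ31 : (ρ : V ≃ₗ[ZMod 2] V) ^ 31 = 1 := by rw [← Subgroup.coe_pow, hMq ρ hρM, Subgroup.coe_one]
      have a1 := finrank_fix h31 hm31 (fun e => h1 (Subtype.ext e)) (by omega)
      have a2 := finrank_fix h31 hρ31 (fun e => hρ1 (Subtype.ext e)) (by omega)
      refine ⟨by omega, fixed_of_invariant h31 hm31 _ (fun w hw => mem_fix.2 ?_) (by omega)⟩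
      have := congrArg (fun x : H => (x : V ≃ₗ[ZMod 2] V) w) (hMab ρ hρM m hm)
      simp only [Subgroup.coe_mul, LinearEquiv.mul_apply] at this
      rw [this, mem_fix.1 hw]
    obtain ⟨v, -, hv⟩ := SetLike.exists_of_lt (lt_top_iff_ne_top.2 (fix_ne_top
      (fun e => hρ1 (Subtype.ext e)) : fix (ρ : V ≃ₗ[ZMod 2] V) ≠ ⊤))
    have hinj : Function.Injective (fun m : M => ((m : H) : V ≃ₗ[ZMod 2] V) v) := by
      intro a b hab
      by_contra hne
      have hm : (b⁻¹ * a : M) ≠ 1 := fun e => hne (inv_mul_eq_one.1 e).symm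
      obtain ⟨d1, d2⟩ := hmo _ (b⁻¹ * a).2 (fun e => hm (Subtype.ext e))
      have d3 := (hmo ρ hρM hρ1).1
      refine hv ((Submodule.eq_of_le_of_finrank_le d2 (by omega)).ge (mem_fix.2 ?_))
      show ((b : H) : V ≃ₗ[ZMod 2] V).symm (((a : H) : V ≃ₗ[ZMod 2] V) v) = v
      rw [show ((a : H) : V ≃ₗ[ZMod 2] V) v = ((b : H) : V ≃ₗ[ZMod 2] V) v from hab, LinearEquiv.symm_apply_apply]
    have hle := Nat.card_le_card_of_injective _ hinj
    rw [he, Module.natCard_eq_pow_finrank (K := ZMod 2) (V := V), Nat.card_zmod, hn] at hle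
    have he1 : e ≤ 1 := by
      by_contra h
      have h3 : 31 ^ 2 ≤ 31 ^ e := Nat.pow_le_pow_right (by norm_num) (by omega)
      norm_num at h3 hle
      omega
    have hσ1 : σ ^ 7 = 1 := hσ ▸ pow_orderOf_eq_one σ
    exact hcontra σ ρ hσ hρo (exists_commuting_of_fixed M hMn hq h7.1 he σ hσ1 (fun i h1 h2 => by
      have : i = 1 := by omega
      subst this
      norm_num) (by norm_num) ρ hρM)

theorem linear_main {n : ℕ} (hn : Module.finrank (ZMod p) V = n) (h3 : 3 ≤ n)
    (X : Subgroup (V ≃ₗ[ZMod p] V)) [Group.IsSolvable X] (htr : Trans X) :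
    ∃ K, ∃ C : Coords n X K, (n = 3 ∧ (p = 2 → Nat.card X = 21 ∨ Nat.card X = 7)) ∨
      (n = 5 ∧ p = 2 ∧ Nat.card X = 155) := by
  rcases (show n = 3 ∨ n = 5 ∨ n = 4 ∨ 6 ≤ n by omega) with rfl | rfl | rfl | h6
  · obtain ⟨s, hs⟩ := exists_prim (p := p) 3 (by norm_num) (by omega)
    obtain ⟨K, ⟨C⟩⟩ := exists_coords_of_prime_degree X Nat.prime_three (by norm_num) hn hs
      (prime_dvd_card X htr hn (k := 1) (by norm_num) hs (by norm_num) le_rfl (by norm_num))
    refine ⟨K, C, Or.inl ⟨rfl, fun h2 => ?_⟩⟩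
    have hd := C.card_dvd (by norm_num)
    obtain ⟨N, S, h1, h2', -⟩ := count X htr hn (k := 1) (by norm_num) (by norm_num)
    subst h2
    simp at h1
    rw [show N = 7 by omega] at h2'
    norm_num at hd
    have h21 := Nat.le_of_dvd (by norm_num) hd
    rw [← h2'] at hd h21 ⊢
    have : S ≤ 3 := by omega
    interval_cases S <;> omega
  · obtain ⟨s, hs⟩ := exists_prim (p := p) 5 (by norm_num) (by omega)
    obtain ⟨K, ⟨C⟩⟩ := exists_coords_of_prime_degree X (by norm_num) (by norm_num) hn hs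
      (prime_dvd_card X htr hn (k := 1) (by norm_num) hs (by norm_num) le_rfl (by norm_num))
    refine ⟨K, C, Or.inr ⟨rfl, ?_⟩⟩
    obtain ⟨N, S, h1, h2, hS⟩ := count X htr hn (k := 2) (by norm_num) (by norm_num)
    simp only [Fin.prod_univ_two, Fin.val_zero, Fin.val_one, pow_zero, pow_one] at h1
    have hd := C.card_dvd (by norm_num)
    have h2p := hp.out.two_le
    have hN : N ∣ (p ^ 5 - 1) * 5 := (Dvd.intro S h2).trans hd
    obtain ⟨a, rfl⟩ : ∃ a, p = a + 2 := ⟨p - 2, by omega⟩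
    have e5 : (a + 2) ^ 5 - (a + 2) = (a + 2) * ((a + 1) * (a + 3) * ((a + 2) ^ 2 + 1)) := by
      apply Nat.sub_eq_of_eq_add; ring
    have e2 : (a + 2) ^ 2 - (a + 2) = (a + 2) * (a + 1) := by apply Nat.sub_eq_of_eq_add; ring
    have e21 : (a + 2) ^ 2 - 1 = (a + 1) * (a + 3) := by apply Nat.sub_eq_of_eq_add; ring
    rw [e5, e2, e21] at h1
    set Q := (a + 2) ^ 5 - 1 with hQ
    have hQ0 : 0 < Q := by
      have : 2 ^ 5 ≤ (a + 2) ^ 5 := Nat.pow_le_pow_left (by omega) 5
      omega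
    have h4 : Q * ((a + 2) ^ 2 + 1) = N * (a + 1) :=
      Nat.eq_of_mul_eq_mul_left (show 0 < (a + 2) * ((a + 1) * (a + 3)) by positivity)
        (by rw [show (a + 2) * ((a + 1) * (a + 3)) * (Q * ((a + 2) ^ 2 + 1)) =
            Q * ((a + 2) * ((a + 1) * (a + 3) * ((a + 2) ^ 2 + 1))) by ring, h1]; ring)
    have h5 : Q * ((a + 2) ^ 2 + 1) ∣ Q * (5 * (a + 1)) := by
      rw [h4, show Q * (5 * (a + 1)) = Q * 5 * (a + 1) by ring]
      exact mul_dvd_mul_right hN _
    have h6 := Nat.le_of_dvd (by omega) (Nat.dvd_of_mul_dvd_mul_left hQ0 h5)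
    have ha : a ≤ 1 := by nlinarith
    interval_cases a
    · norm_num [hQ] at h4 hd
      subst h4
      refine ⟨rfl, ?_⟩
      have := Nat.le_of_dvd (by norm_num) hd
      rw [← h2] at this hd ⊢
      have : S ≤ 1 := by omega
      interval_cases S <;> omega
    · exfalso
      norm_num [hQ] at h4 hd
      have hS2 : 2 ≤ S := hS (by
        haveI : Fact (Nat.Prime 2) := ⟨Nat.prime_two⟩
        haveI : Finite (V ≃ₗ[ZMod (1 + 2)] V) := Finite.of_injective _ DFunLike.coe_injective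
        obtain ⟨z, hz⟩ := exists_prime_orderOf_dvd_card' (G := X) 2
          ((dvd_mul_of_dvd_left (show 2 ∣ N by omega) S).trans h2.dvd)
        have hχ : C.χ z = 1 := orderOf_eq_one_iff.1 <| Nat.eq_one_of_dvd_coprimes (show Nat.Coprime 2 5 by norm_num)
          ((orderOf_map_dvd C.χ z).trans hz.dvd) ((orderOf_dvd_natCard _).trans (card_ringAut 5 (by norm_num)).dvd)
        refine ⟨z, z.2, fun e => by rw [show z = 1 from Subtype.ext e, orderOf_one] at hz; norm_num at hz,
          -1, fun v => C.e.injective ?_⟩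
        have h1 : ∀ v, C.e ((z : V ≃ₗ[ZMod (1 + 2)] V) v) = (C.ν z : GaloisField (1 + 2) 5) * C.e v :=
          fun v => by rw [C.apply, hχ]; rfl
        have hz2 : ((z : V ≃ₗ[ZMod (1 + 2)] V) ((z : V ≃ₗ[ZMod (1 + 2)] V) (C.e.symm 1))) = C.e.symm 1 := by
          rw [← LinearEquiv.mul_apply, ← Subgroup.coe_mul, ← pow_two, show z ^ 2 = 1 from orderOf_dvd_iff_pow_eq_one.1 hz.dvd]; rfl
        have h3 := congrArg C.e hz2
        rw [h1, h1, AddEquiv.apply_symm_apply, mul_one] at h3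
        rw [h1, neg_one_smul, map_neg]
        rcases mul_self_eq_one_iff.1 h3 with e | e
        · exfalso
          have : (z : V ≃ₗ[ZMod (1 + 2)] V) = 1 := LinearEquiv.ext fun v => C.e.injective (by
            rw [h1, e, one_mul]; rfl)
          rw [show z = 1 from Subtype.ext this, orderOf_one] at hz
          norm_num at hz
        · rw [e, neg_one_mul])
      have := Nat.le_of_dvd (by norm_num) hd
      rw [← h2] at this
      have h7 : N * 2 ≤ N * S := Nat.mul_le_mul_left _ hS2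
      omega
  · exfalso
    obtain ⟨s, hs⟩ := exists_prim (p := p) 4 (by norm_num) (by omega)
    obtain ⟨t, ht⟩ := exists_prim (p := p) 3 (by norm_num) (by omega)
    have := (pair_eq hn X hs ht (by norm_num) (by norm_num)
      (prime_dvd_card X htr hn (k := 1) (by norm_num) hs (by norm_num) le_rfl (by norm_num))
      (prime_dvd_card X htr hn (k := 2) (by norm_num) ht (by norm_num) (by norm_num) (by norm_num))).1
    norm_num at this
  · exfalso
    by_cases h26 : p = 2 ∧ n = 6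
    · obtain ⟨rfl, rfl⟩ := h26
      exact not_six_two hn X htr
    obtain ⟨s, hs⟩ := exists_prim (p := p) n (by omega) h26
    have hsX := prime_dvd_card X htr hn (k := 1) (by omega) hs (by omega) le_rfl (by omega)
    by_cases h28 : p = 2 ∧ n = 8
    · obtain ⟨t, ht⟩ := exists_prim (p := p) 7 (by norm_num) (by omega)
      have := (pair_eq hn X hs ht (by omega) (by omega) hsX
        (prime_dvd_card X htr hn (k := 2) (by omega) ht (by norm_num) (by omega) (by omega))).1
      rw [h28.2] at this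
      norm_num at this
    · obtain ⟨t, ht⟩ := exists_prim (p := p) (n - 2) (by omega) (by omega)
      have := (pair_eq hn X hs ht (by omega) (by omega) hsX
        (prime_dvd_card X htr hn (k := 3) (by omega) ht (by omega) (by omega) (by omega))).2
      omega

end CfsgLib.ClassSizes.SolvAutomizer
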