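import Cfsg.Prelude.Def_Transfer
import Cfsg.Agent.Lib.ClassSizes.SolvAutomizer.Linear
import Cfsg.Agent.Lib.ClassSizes.SolvAutomizer.Affine

/-!
# The normaliser of an elementary abelian Sylow subgroup with conjugate subgroups of equal order
-/

set_option autoImplicit false
set_option linter.all false

namespace CfsgLib.ClassSizes.SolvAutomizer

open Cfsg Subgroup
open scoped Pointwise

variable {p : ℕ} [hp : Fact p.Prime]

/-- The generic form of the classification. -/
theorem classify {V : Type*} [AddCommGroup V] [Module (ZMod p) V] [Finite V] {n : ℕ}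
    (hn : Module.finrank (ZMod p) V = n) (h3 : 3 ≤ n) {Q : Type*} [Group Q] [Finite Q] [Group.IsSolvable Q]
    (ψ : Q →* (V ≃ₗ[ZMod p] V)) (htr : Trans ψ.range) (ι : V → Q) (hι : ∀ a b, ι (a + b) = ι a * ι b)
    (hinj : Function.Injective ι) (hker : ∀ q, q ∈ ψ.ker ↔ ∃ v, ι v = q)
    (heq : ∀ q v, q * ι v * q⁻¹ = ι (ψ q v)) (hcop : ¬ p ∣ ψ.ker.index) :
    (n = 3 ∧ (∃ f : Q →* semiaffineGroup (GaloisField p 3), Function.Injective f) ∧
      (p = 2 → Nonempty (Q ≃* semiaffineGroup (GaloisField 2 3)) ∨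
               Nonempty (Q ≃* affineGroup (GaloisField 2 3)))) ∨
    (n = 5 ∧ p = 2 ∧ Nonempty (Q ≃* semiaffineGroup (GaloisField 2 5))) := by
  haveI : Finite (V ≃ₗ[ZMod p] V) := Finite.of_injective _ DFunLike.coe_injective
  haveI : Group.IsSolvable ψ.range := solvable_of_surjective ψ.rangeRestrict_surjective
  obtain ⟨K, C, hC⟩ := linear_main hn h3 ψ.range htr
  have hker' : Nat.card ψ.ker = p ^ n := by
    have hV := Module.natCard_eq_pow_finrank (K := ZMod p) (V := V)
    rw [Nat.card_zmod, hn] at hV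
    rw [← hV]
    exact (Nat.card_congr (Equiv.ofBijective (fun v : V => (⟨ι v, (hker _).2 ⟨v, rfl⟩⟩ : ψ.ker))
      ⟨fun a b e => hinj (congrArg Subtype.val e),
       fun q => by obtain ⟨v, hv⟩ := (hker _).1 q.2; exact ⟨v, Subtype.ext hv⟩⟩)).symm
  have hQ : Nat.card Q = p ^ n * Nat.card ψ.range := by
    rw [← ψ.ker.card_mul_index, hker', Subgroup.index_ker]
  obtain ⟨f, hf, haff⟩ := exists_embedding ψ ι hι hinj hker heq
    (by rw [hker']; exact ((hp.out.coprime_iff_not_dvd).2 hcop).pow_left n) C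
  have hfin : ∀ {m : ℕ}, m ≠ 0 → Finite (Equiv.Perm (GaloisField p m)) := fun {m} hm => inferInstance
  rcases hC with ⟨rfl, h2⟩ | ⟨rfl, rfl, h155⟩
  · refine Or.inl ⟨rfl, ⟨f, hf⟩, fun hp2 => ?_⟩
    rcases h2 hp2 with h21 | h7
    · subst hp2
      refine Or.inl ⟨MulEquiv.ofBijective f (hf.bijective_of_nat_card_le ?_)⟩
      rw [hQ, h21]
      exact (card_semiaffine_le (p := 2) (n := 3) (by norm_num)).trans (by norm_num)
    · right
      have hχ : ∀ x, C.χ x = 1 := by
        intro x
        refine orderOf_eq_one_iff.1 (Nat.eq_one_of_dvd_coprimes (show Nat.Coprime 7 3 by norm_num)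
          ((orderOf_map_dvd C.χ x).trans ((_root_.orderOf_dvd_natCard x).trans h7.dvd)) ?_)
        exact (_root_.orderOf_dvd_natCard _).trans (card_ringAut 3 (by norm_num)).dvd
      subst hp2
      let g : Q →* affineGroup (GaloisField 2 3) :=
        (((semiaffineGroup (GaloisField 2 3)).subtype).comp f).codRestrict _ (haff hχ)
      have hg : Function.Injective g := fun a b e => hf (Subtype.ext (congrArg (fun z : affineGroup (GaloisField 2 3) => (z : Equiv.Perm (GaloisField 2 3))) e))
      refine ⟨MulEquiv.ofBijective g (hg.bijective_of_nat_card_le ?_)⟩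
      rw [hQ, h7]
      exact (card_affine_le (p := 2) (n := 3) (by norm_num)).trans (by norm_num)
  · refine Or.inr ⟨rfl, rfl, ⟨MulEquiv.ofBijective f (hf.bijective_of_nat_card_le ?_)⟩⟩
    rw [hQ, h155]
    exact (card_semiaffine_le (p := 2) (n := 5) (by norm_num)).trans (by norm_num)

variable {G : Type*} [Group G] [Finite G]

/-- Conjugate subgroups of an abelian Sylow subgroup are conjugate in its normaliser. -/
theorem exists_normalizer_conj (P : Sylow p G) (hab : IsMulCommutative (P : Subgroup G)) (A : Subgroup G)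
    (hA : A ≤ P) (g : G) (hg : A.map (MulAut.conj g).toMonoidHom ≤ P) :
    ∃ m ∈ normalizer ((P : Subgroup G) : Set G), ∀ a ∈ A, m * a * m⁻¹ = g * a * g⁻¹ := by
  have hc : ∀ x ∈ (P : Subgroup G), ∀ y ∈ (P : Subgroup G), x * y = y * x := fun x hx y hy =>
    congrArg Subtype.val (mul_comm' (⟨x, hx⟩ : (P : Subgroup G)) ⟨y, hy⟩)
  set B := A.map (MulAut.conj g).toMonoidHom
  have h1 : (P : Subgroup G) ≤ centralizer (B : Set G) := fun x hx =>
    mem_centralizer_iff.2 fun b hb => hc b (hg hb) x hx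
  have h2 : ↑(g • P) ≤ centralizer (B : Set G) := by
    rintro - ⟨z, hz, rfl⟩
    refine mem_centralizer_iff.2 fun b hb => ?_
    obtain ⟨a, ha, rfl⟩ := hb
    have := hc a (hA ha) z hz
    calc MulAut.conj g a * MulAut.conj g z = MulAut.conj g (a * z) := (map_mul _ _ _).symm
      _ = MulAut.conj g (z * a) := by rw [this]
      _ = _ := map_mul _ _ _
  obtain ⟨c, hh⟩ :=
    MulAction.exists_smul_eq (centralizer (B : Set G)) ((g • P).subtype h2) (P.subtype h1)
  simp_rw [Sylow.smul_subtype, Subgroup.smul_def, smul_smul] at hh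
  refine ⟨c * g, Sylow.smul_eq_iff_mem_normalizer.mp (Sylow.subtype_injective hh), fun a ha => ?_⟩
  have h3 := mem_centralizer_iff.1 c.2 (g * a * g⁻¹) ⟨a, ha, rfl⟩
  calc (c : G) * g * a * ((c : G) * g)⁻¹ = (c : G) * (g * a * g⁻¹) * (c : G)⁻¹ := by group
    _ = g * a * g⁻¹ := by rw [← h3]; group

/-- A group of automorphisms of an abelian group as a group of linear maps. -/
def toLinRep {M : Type*} [CommGroup M] [Module (ZMod p) (Additive M)] {N : Type*} [Group N]
    (φ : N →* MulAut M) : N →* (Additive M ≃ₗ[ZMod p] Additive M) :=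
  MonoidHom.mk' (fun a => (MulEquiv.toAdditive (φ a)).toLinearEquiv
      (fun c v => ZMod.map_smul (MulEquiv.toAdditive (φ a)).toAddMonoidHom c v))
    fun a b => LinearEquiv.ext fun v => by
      show MulEquiv.toAdditive (φ (a * b)) v = MulEquiv.toAdditive (φ a) (MulEquiv.toAdditive (φ b) v)
      rw [map_mul]
      rfl

theorem main_aux {M : Type*} [CommGroup M] [Finite M] [Module (ZMod p) (Additive M)]
    (hC : ∀ H K : Subgroup G, IsPGroup p H → IsPGroup p K → Nat.card H = Nat.card K →
      ∃ g : G, K = H.map (MulAut.conj g).toMonoidHom) (P : Sylow p G) (n : ℕ) (hn : 3 ≤ n)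
    (hab : IsMulCommutative (P : Subgroup G)) (hexp : ∀ a ∈ (P : Subgroup G), a ^ p = 1)
    (hcard : Nat.card P = p ^ n) (iso : M ≃* (P : Subgroup G))
    (hsolv : Group.IsSolvable (↥(Subgroup.normalizer ((P : Subgroup G) : Set G)) ⧸
      Cfsg.pPrimeCore p ↥(Subgroup.normalizer ((P : Subgroup G) : Set G)))) :
    let N := Subgroup.normalizer ((P : Subgroup G) : Set G)
    (n = 3 ∧ (∃ f : ↥N ⧸ Cfsg.pPrimeCore p ↥N →* ↥(Cfsg.semiaffineGroup (GaloisField p 3)), Function.Injective f) ∧
      (p = 2 → Nonempty (↥N ⧸ Cfsg.pPrimeCore p ↥N ≃* Cfsg.semiaffineGroup (GaloisField 2 3)) ∨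
               Nonempty (↥N ⧸ Cfsg.pPrimeCore p ↥N ≃* Cfsg.affineGroup (GaloisField 2 3)))) ∨
    (n = 5 ∧ p = 2 ∧ Nonempty (↥N ⧸ Cfsg.pPrimeCore p ↥N ≃* Cfsg.semiaffineGroup (GaloisField 2 5))) := by
  intro N
  have hPN : (P : Subgroup G) ≤ N := le_normalizer
  have hconj : ∀ m : N, ∀ x ∈ (P : Subgroup G), (m : G) * x * (m : G)⁻¹ ∈ (P : Subgroup G) :=
    fun m x hx => (mem_normalizer_iff.1 m.2 x).1 hx
  let val : Additive M → G := fun v => ((iso (Additive.toMul v) : (P : Subgroup G)) : G)
  have hvalP : ∀ v, val v ∈ (P : Subgroup G) := fun v => (iso (Additive.toMul v)).2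
  have hval : Function.Injective val := fun a b e => Additive.toMul.injective (iso.injective (Subtype.ext e))
  let act : N → MulAut M := fun m => iso.trans ((
    { toFun := fun x => ⟨(m : G) * x * (m : G)⁻¹, hconj m _ x.2⟩
      invFun := fun x => ⟨(m : G)⁻¹ * x * (m : G), by simpa using hconj m⁻¹ _ x.2⟩
      left_inv := fun x => Subtype.ext (by simp [mul_assoc])
      right_inv := fun x => Subtype.ext (by simp [mul_assoc])
      map_mul' := fun x y => Subtype.ext (by
        show (m : G) * ((x : G) * (y : G)) * (m : G)⁻¹ = ((m : G) * x * (m : G)⁻¹) * ((m : G) * y * (m : G)⁻¹)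
        group) } : (P : Subgroup G) ≃* (P : Subgroup G)).trans iso.symm)
  have hact : ∀ (m : N) (x : M), ((iso (act m x) : (P : Subgroup G)) : G) = (m : G) * (iso x : (P : Subgroup G)) * (m : G)⁻¹ := by
    intro m x
    show ((iso (iso.symm _) : (P : Subgroup G)) : G) = _
    rw [MulEquiv.apply_symm_apply]
    rfl
  let φ : N →* MulAut M := MonoidHom.mk' act fun a b => MulEquiv.ext fun x => iso.injective (Subtype.ext (by
    rw [hact, MulAut.mul_apply, hact, hact, Subgroup.coe_mul]
    group))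
  let ψ : N →* (Additive M ≃ₗ[ZMod p] Additive M) := toLinRep φ
  have hψ : ∀ (m : N) (v : Additive M), val (ψ m v) = (m : G) * val v * (m : G)⁻¹ :=
    fun m v => hact m (Additive.toMul v)
  have hfr : Module.finrank (ZMod p) (Additive M) = n := by
    have h := Module.natCard_eq_pow_finrank (K := ZMod p) (V := Additive M)
    rw [Nat.card_zmod, Nat.card_congr (Additive.toMul.trans iso.toEquiv), hcard] at h
    exact (Nat.pow_right_injective hp.out.two_le h).symm
  haveI := hab
  set K := pPrimeCore p N with hK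
  set PN := (P : Subgroup G).subgroupOf N with hPNdef
  haveI hPNn : PN.Normal := ⟨fun x hx m => hconj m _ hx⟩
  have hPNp : IsPGroup p PN := P.isPGroup'.comap_subtype
  have hcPN : Nat.card PN = p ^ n := by
    rw [← hcard]
    exact Nat.card_congr (subgroupOfEquivOfLe hPN).toEquiv
  have hKc := CfsgLib.Core.coprime_card_pPrimeCore p N
  have hdisj : Disjoint PN K := disjoint_iff.2 (inf_eq_bot_of_coprime (by
    rw [hcPN]; exact (Nat.Coprime.pow_right n hKc).symm))
  have hKker : K ≤ ψ.ker := by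
    intro k hk
    refine LinearEquiv.ext fun v => hval ((hψ _ v).trans ?_)
    have h := Subgroup.commute_of_normal_of_disjoint PN K hPNn inferInstance hdisj
      ⟨val v, hPN (hvalP v)⟩ k (hvalP v) hk
    show (k : G) * val v * (k : G)⁻¹ = val v
    rw [← show val v * (k : G) = (k : G) * val v from congrArg Subtype.val h.eq, mul_inv_cancel_right]
  have hPker : PN ≤ ψ.ker := by
    intro x hx
    refine LinearEquiv.ext fun v => hval ((hψ _ v).trans ?_)
    show (x : G) * val v * (x : G)⁻¹ = val v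
    rw [show (x : G) * val v = val v * x from congrArg Subtype.val
      (mul_comm' (⟨(x : G), hx⟩ : (P : Subgroup G)) ⟨val v, hvalP v⟩), mul_inv_cancel_right]
  have hidx : ¬ p ∣ PN.index := (P.subtype hPN).not_dvd_index
  have hgen : ψ.ker ≤ PN ⊔ K := by
    have hi : (Nat.card (PN.subgroupOf ψ.ker)).Coprime (PN.subgroupOf ψ.ker).index := by
      rw [Nat.card_congr (subgroupOfEquivOfLe hPker).toEquiv, hcPN]
      exact ((hp.out.coprime_iff_not_dvd).2 fun h => hidx (h.trans (relIndex_dvd_index_of_normal PN ψ.ker))).pow_left n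
    obtain ⟨K0, hK0⟩ := exists_right_complement'_of_coprime hi
    have hK0c : (Nat.card K0).Coprime p := by
      rw [← hK0.symm.index_eq_card]
      exact ((hp.out.coprime_iff_not_dvd).2 fun h => hidx (h.trans (relIndex_dvd_index_of_normal PN ψ.ker))).symm
    have hmem : ∀ x : ψ.ker, x ∈ K0 ↔ (orderOf x).Coprime p := by
      refine fun x => ⟨fun hx => Nat.Coprime.coprime_dvd_left (K0.orderOf_dvd_natCard hx) hK0c, fun hx => ?_⟩
      obtain ⟨⟨⟨u, hu⟩, ⟨k, hk⟩⟩, e⟩ := hK0.2 x
      have e' : u * k = x := e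
      have hcomm : Commute u k := by
        refine Subtype.ext (Subtype.ext ?_)
        have h := congrArg val (DFunLike.congr_fun (show ψ (k : N) = 1 from k.2) (Additive.ofMul (iso.symm (⟨((u : N) : G), hu⟩ : (P : Subgroup G)))))
        rw [hψ] at h
        simp only [val, toMul_ofMul, MulEquiv.apply_symm_apply, LinearEquiv.coe_one, id_eq] at h
        change ((k : N) : G) * ((u : N) : G) * ((k : N) : G)⁻¹ = ((u : N) : G) at h
        show ((u : N) : G) * ((k : N) : G) = ((k : N) : G) * ((u : N) : G)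
        exact (mul_inv_eq_iff_eq_mul.1 h).symm
      have hup : u ^ p = 1 := Subtype.ext (Subtype.ext (by simpa using hexp _ hu))
      have hu1 : u = 1 := by
        refine orderOf_eq_one_iff.1 (Nat.eq_one_of_dvd_coprimes (Nat.Coprime.mul_left hx
          (Nat.Coprime.coprime_dvd_left (K0.orderOf_dvd_natCard hk) hK0c)).symm (orderOf_dvd_of_pow_eq_one hup) ?_)
        refine orderOf_dvd_of_pow_eq_one ?_
        have h1 : x ^ (orderOf x * orderOf k) = 1 := by rw [pow_mul, pow_orderOf_eq_one, one_pow]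
        rw [← e', hcomm.mul_pow, e', mul_comm (orderOf x) (orderOf k), pow_mul k, pow_orderOf_eq_one, one_pow,
          mul_one] at h1
        rwa [mul_comm]
      rw [← e', hu1, one_mul]
      exact hk
    let K1 := K0.map ψ.ker.subtype
    haveI : K1.Normal := by
      refine ⟨fun x hx m => ?_⟩
      obtain ⟨k, hk, rfl⟩ := hx
      have hmk : m * (k : N) * m⁻¹ ∈ ψ.ker := (inferInstance : ψ.ker.Normal).conj_mem _ k.2 m
      refine ⟨⟨_, hmk⟩, (hmem _).2 ?_, rfl⟩
      rw [← Subgroup.orderOf_coe]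
      show (orderOf (m * (k : N) * m⁻¹)).Coprime p
      rw [← MulAut.conj_apply, MulEquiv.orderOf_eq, Subgroup.orderOf_coe]
      exact (hmem k).1 hk
    have hK1 : K1 ≤ K := CfsgLib.Core.le_pPrimeCore (by
      rw [← Nat.card_congr (K0.equivMapOfInjective _ ψ.ker.subtype_injective).toEquiv]; exact hK0c)
    intro x hx
    obtain ⟨⟨⟨u, hu⟩, ⟨k, hk⟩⟩, e⟩ := hK0.2 ⟨x, hx⟩
    rw [← show (u : N) * (k : N) = x from congrArg Subtype.val e]
    exact mul_mem_sup hu (hK1 ⟨k, hk, rfl⟩)
  let ψQ : N ⧸ K →* (Additive M ≃ₗ[ZMod p] Additive M) := QuotientGroup.lift K ψ hKker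
  let ι : Additive M → N ⧸ K := fun v => ((⟨val v, hPN (hvalP v)⟩ : N) : N ⧸ K)
  have hrange : ψQ.range = ψ.range := by
    ext h
    constructor
    · rintro ⟨q, rfl⟩
      induction q using QuotientGroup.induction_on with
      | H m => exact ⟨m, rfl⟩
    · rintro ⟨m, rfl⟩
      exact ⟨(m : N ⧸ K), rfl⟩
  haveI := hsolv
  refine classify hfr hn ψQ ?_ ι (fun a b => congrArg (fun x : N => (x : N ⧸ K)) (Subtype.ext (show val (a + b) = val a * val b from congrArg Subtype.val (map_mul iso (Additive.toMul a) (Additive.toMul b))))) ?_ ?_ ?_ ?_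
  · -- transitivity on subspaces
    intro W W' hd
    let sub : Submodule (ZMod p) (Additive M) → Subgroup G := fun U =>
      { carrier := val '' (U : Set (Additive M))
        one_mem' := ⟨0, U.zero_mem, congrArg Subtype.val (map_one iso)⟩
        mul_mem' := by
          rintro _ _ ⟨a, ha, rfl⟩ ⟨b, hb, rfl⟩
          exact ⟨a + b, U.add_mem ha hb, congrArg Subtype.val (map_mul iso (Additive.toMul a) (Additive.toMul b))⟩
        inv_mem' := by
          rintro _ ⟨a, ha, rfl⟩
          exact ⟨-a, U.neg_mem ha, congrArg Subtype.val (map_inv iso (Additive.toMul a))⟩ }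
    have hsubc : ∀ U, Nat.card (sub U) = p ^ Module.finrank (ZMod p) U := fun U => by
      have h1 : Nat.card (sub U) = Nat.card U := Nat.card_image_of_injective hval (U : Set (Additive M))
      rw [h1, Module.natCard_eq_pow_finrank (K := ZMod p) (V := U), Nat.card_zmod]
    have hle : ∀ U, sub U ≤ P := by
      rintro U _ ⟨a, -, rfl⟩
      exact hvalP a
    obtain ⟨g, hg⟩ := hC (sub W) (sub W') (P.isPGroup'.to_le (hle W)) (P.isPGroup'.to_le (hle W'))
      (by rw [hsubc, hsubc, hd])
    obtain ⟨m, hm, hma⟩ := exists_normalizer_conj P hab (sub W) (hle W) g (hg ▸ hle W')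
    refine ⟨ψ ⟨m, hm⟩, hrange ▸ ⟨⟨m, hm⟩, rfl⟩, ?_⟩
    refine SetLike.coe_injective (hval.image_injective ?_)
    show val '' ((W.map (lin (ψ ⟨m, hm⟩)) : Submodule (ZMod p) (Additive M)) : Set (Additive M)) = ((sub W' : Subgroup G) : Set G)
    rw [hg, Submodule.map_coe, Set.image_image, Subgroup.coe_map]
    show _ = _ '' (val '' (W : Set (Additive M)))
    rw [Set.image_image]
    refine Set.image_congr fun v hv => ?_
    show val (ψ ⟨m, hm⟩ v) = MulAut.conj g (val v)
    rw [hψ, MulAut.conj_apply]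
    exact hma _ ⟨v, hv, rfl⟩
  · intro a b e
    have h := QuotientGroup.eq.1 e
    have h' := Subgroup.mem_bot.1 (hdisj.le_bot ⟨PN.mul_mem (PN.inv_mem (hvalP a)) (hvalP b), h⟩)
    have h2 := congrArg Subtype.val (inv_mul_eq_one.1 h')
    exact hval h2
  · intro q
    induction q using QuotientGroup.induction_on with
    | H m =>
      constructor
      · intro hm
        have h1 : m ∈ PN ⊔ K := hgen hm
        rw [← SetLike.mem_coe, Subgroup.normal_mul PN K] at h1
        obtain ⟨u, hu, k, hk, rfl⟩ := h1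
        refine ⟨Additive.ofMul (iso.symm (⟨(u : G), hu⟩ : (P : Subgroup G))), QuotientGroup.eq.2 ?_⟩
        rw [show (⟨val (Additive.ofMul (iso.symm (⟨(u : G), hu⟩ : (P : Subgroup G)))), hPN (hvalP _)⟩ : N) = u from
          Subtype.ext (by simp [val]), inv_mul_cancel_left]
        exact hk
      · rintro ⟨v, hv⟩
        rw [← hv]
        exact hPker (hvalP v)
  · intro q v
    induction q using QuotientGroup.induction_on with
    | H m => exact congrArg (fun x : N => (x : N ⧸ K)) (Subtype.ext (hψ m v).symm)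
  · intro h
    refine hidx (h.trans ?_)
    have hk : ψQ.ker.comap (QuotientGroup.mk' K) = ψ.ker := rfl
    have h2 := ψQ.ker.index_comap_of_surjective (QuotientGroup.mk'_surjective K)
    rw [hk] at h2
    rw [← h2]
    exact Subgroup.index_dvd_of_le hPker

open scoped IsMulCommutative in
theorem main (hC : ∀ H K : Subgroup G, IsPGroup p H → IsPGroup p K → Nat.card H = Nat.card K →
      ∃ g : G, K = H.map (MulAut.conj g).toMonoidHom) (P : Sylow p G) (n : ℕ) (hn : 3 ≤ n)
    (hel : Cfsg.IsElementaryAbelian p (P : Subgroup G)) (hcard : Nat.card P = p ^ n)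
    (N : Subgroup G) (hN : N = Subgroup.normalizer ((P : Subgroup G) : Set G))
    (hsolv : Group.IsSolvable (↥N ⧸ Cfsg.pPrimeCore p ↥N)) :
    (n = 3 ∧ (∃ f : ↥N ⧸ Cfsg.pPrimeCore p ↥N →* ↥(Cfsg.semiaffineGroup (GaloisField p 3)), Function.Injective f) ∧
      (p = 2 → Nonempty (↥N ⧸ Cfsg.pPrimeCore p ↥N ≃* Cfsg.semiaffineGroup (GaloisField 2 3)) ∨
               Nonempty (↥N ⧸ Cfsg.pPrimeCore p ↥N ≃* Cfsg.affineGroup (GaloisField 2 3)))) ∨
    (n = 5 ∧ p = 2 ∧ Nonempty (↥N ⧸ Cfsg.pPrimeCore p ↥N ≃* Cfsg.semiaffineGroup (GaloisField 2 5))) := by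
  subst hN
  obtain ⟨hab, hexp⟩ := hel
  haveI := hab
  letI : Module (ZMod p) (Additive (P : Subgroup G)) := AddCommGroup.zmodModule (fun v =>
    Additive.toMul.injective (Subtype.ext ((Subgroup.coe_pow _ _ _).trans (hexp _ (Additive.toMul v).2))))
  exact main_aux (M := (P : Subgroup G)) hC P n hn hab hexp hcard (MulEquiv.refl _) hsolv

end CfsgLib.ClassSizes.SolvAutomizer
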