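import Cfsg.Agent.Lib.ClassSizes.SolvAutomizer.AbelianNormal
import Cfsg.Agent.Lib.Core.Cores
import Cfsg.Agent.Lib.Core.Nilpotent
import Cfsg.Agent.Lib.Components.FStar

/-!
# Solvable linear groups of odd prime degree with a large primitive prime
-/

set_option autoImplicit false
set_option linter.all false

namespace CfsgLib.ClassSizes.SolvAutomizer

open Subgroup
open scoped commutatorElement

variable {p : ℕ} [hp : Fact p.Prime] {V : Type*} [AddCommGroup V] [Module (ZMod p) V] [Finite V]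

theorem linearIndependent_of_characters {ι κ W : Type*} [AddCommGroup W] [Module (ZMod p) W]
    (L : κ → (W →ₗ[ZMod p] W)) (T : ι → W) (χ : ι → κ → ZMod p) (h0 : ∀ i, T i ≠ 0)
    (heig : ∀ i b, L b (T i) = χ i b • T i) (hne : ∀ i k, χ i = χ k → i = k) :
    LinearIndependent (ZMod p) T := by
  classical
  rw [linearIndependent_iff']
  intro s
  induction s using Finset.induction_on with
  | empty => simp
  | insert a s ha ih =>
    intro g hsum i hi
    have hs : ∀ k ∈ s, g k = 0 := by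
      intro k hk
      obtain ⟨b, hb⟩ := Function.ne_iff.1 (fun e => ha (hne k a e ▸ hk))
      have h1 := congrArg (L b) hsum
      rw [map_sum, map_zero] at h1
      have h2 : ∑ l ∈ insert a s, (g l * (χ l b - χ a b)) • T l = 0 := by
        have : ∀ l ∈ insert a s, (g l * (χ l b - χ a b)) • T l = L b (g l • T l) - χ a b • (g l • T l) := by
          intro l _
          rw [map_smul, heig, smul_smul, smul_smul, mul_sub, sub_smul, mul_comm (g l) (χ a b)]
        rw [Finset.sum_congr rfl this, Finset.sum_sub_distrib, ← Finset.smul_sum, h1, hsum, smul_zero, sub_zero]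
      rw [Finset.sum_insert ha, sub_self, mul_zero, zero_smul, zero_add] at h2
      exact (mul_eq_zero.1 (ih _ h2 k hk)).resolve_right (sub_ne_zero.2 hb)
    rw [Finset.sum_insert ha, Finset.sum_eq_zero (fun k hk => by rw [hs k hk, zero_smul]), add_zero] at hsum
    rcases Finset.mem_insert.1 hi with rfl | hi
    · exact (smul_eq_zero.1 hsum).resolve_right (h0 _)
    · exact hs i hi

variable {n s : ℕ}

theorem pow_card_eq_one_of_scal_det {z : V ≃ₗ[ZMod p] V} (hn : Module.finrank (ZMod p) V = n)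
    (hz : Scal z) (hdet : LinearEquiv.det z = 1) : z ^ n = 1 := by
  obtain ⟨c, hc⟩ := scal_iff.1 hz
  have hl : lin z = c • LinearMap.id := LinearMap.ext hc
  have h1 : LinearMap.det (lin z) = 1 := by
    have := congrArg Units.val hdet
    rwa [LinearEquiv.coe_det, Units.val_one] at this
  rw [hl, LinearMap.det_smul, hn, LinearMap.det_id, mul_one] at h1
  have h2 : ∀ (k : ℕ) (v : V), (z ^ k) v = c ^ k • v := by
    intro k
    induction k with
    | zero => intro v; rw [pow_zero, pow_zero, one_smul]; rfl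
    | succ k ih => intro v; rw [pow_succ, LinearEquiv.mul_apply, hc, map_smul, ih, smul_smul, pow_succ']
  exact LinearEquiv.ext fun v => by rw [h2, h1, one_smul]; rfl

variable (X : Subgroup (V ≃ₗ[ZMod p] V))

theorem commute_normal_pGroup (hprime : n.Prime) (hodd : 2 < n) (hn : Module.finrank (ZMod p) V = n)
    (hs : Prim p s n) (hsn : n < s) (σ : X) (hσs : σ ^ s = 1)
    (hscal : ∀ A : Subgroup X, A.Normal → (∀ a ∈ A, ∀ b ∈ A, a * b = b * a) →
      ∀ a ∈ A, Scal (a : V ≃ₗ[ZMod p] V))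
    {r : ℕ} (hr : r.Prime) (R : Subgroup X) [hRn : R.Normal] (hR : IsPGroup r R) :
    ∀ a ∈ R, σ * a = a * σ := by
  haveI : Finite (V ≃ₗ[ZMod p] V) := Finite.of_injective _ DFunLike.coe_injective
  haveI := Fact.mk hr
  have hcen : ∀ a : X, Scal (a : V ≃ₗ[ZMod p] V) → ∀ g : X, a * g = g * a := fun a ha g =>
    Subtype.ext (ha.comm _)
  set Z : Subgroup X := R ⊓ centralizer (R : Set X) with hZ
  have hZab : ∀ a ∈ Z, ∀ b ∈ Z, a * b = b * a := fun a ha b hb =>
    ((mem_centralizer_iff.1 (mem_inf.1 ha).2) b (mem_inf.1 hb).1).symm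
  haveI hZn : Z.Normal := inferInstance
  have hZs : ∀ a ∈ Z, Scal (a : V ≃ₗ[ZMod p] V) := hscal Z inferInstance hZab
  -- commutators of `R` lie in `Z`
  have hD : ⁅R, R⁆ ≤ Z := by
    by_contra hle
    let π := QuotientGroup.mk' Z
    let Rb := R.map π
    let E : Subgroup X := ⁅R, R⁆ ⊓ (centralizer (Rb : Set (X ⧸ Z))).comap π
    haveI : Rb.Normal := hRn.map π (QuotientGroup.mk'_surjective Z)
    haveI hEn : E.Normal := inferInstance
    have hEab : ∀ a ∈ E, ∀ b ∈ E, a * b = b * a := by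
      intro u hu d hd
      have hu1 : u ∈ R := commutator_le_left R R hu.1
      have hcm : ∀ a ∈ R, ∃ z ∈ Z, u * a * u⁻¹ = z * a := by
        intro a ha
        refine ⟨u * a * u⁻¹ * a⁻¹, ?_, by group⟩
        have h1 := (mem_centralizer_iff.1 hu.2) (π a) ⟨a, ha, rfl⟩
        rw [← QuotientGroup.eq_one_iff]
        show π (u * a * u⁻¹ * a⁻¹) = 1
        rw [map_mul, map_mul, map_mul, map_inv, map_inv, ← h1]
        group
      have hle2 : ⁅R, R⁆ ≤ centralizer ({u} : Set X) := by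
        rw [commutator_le]
        intro a ha b hb
        obtain ⟨z1, hz1, h1⟩ := hcm a ha
        obtain ⟨z2, hz2, h2⟩ := hcm b hb
        have c1 := hcen z1 (hZs z1 hz1)
        have c2 := hcen z2 (hZs z2 hz2)
        rw [mem_centralizer_singleton_iff]
        have h3 : u * ⁅a, b⁆ * u⁻¹ = ⁅a, b⁆ := by
          have e : MulAut.conj u ⁅a, b⁆ = ⁅a, b⁆ := by
            rw [map_commutatorElement, MulAut.conj_apply, MulAut.conj_apply, h1, h2, commutatorElement_def,
              commutatorElement_def, mul_inv_rev, mul_inv_rev]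
            calc z1 * a * (z2 * b) * (a⁻¹ * z1⁻¹) * (b⁻¹ * z2⁻¹)
                = z1 * (a * z2) * b * (a⁻¹ * z1⁻¹) * (b⁻¹ * z2⁻¹) := by group
              _ = z1 * z2 * (a * b * a⁻¹) * (z1⁻¹ * b⁻¹) * z2⁻¹ := by rw [← c2 a]; group
              _ = z1 * (z2 * (a * b * a⁻¹ * b⁻¹) * z2⁻¹) * z1⁻¹ := by
                have e1 : z1⁻¹ * b⁻¹ = b⁻¹ * z1⁻¹ := ((show Commute z1 b⁻¹ from c1 _).inv_left).eq
                have e2 : z1⁻¹ * z2⁻¹ = z2⁻¹ * z1⁻¹ := ((show Commute z1 z2⁻¹ from c1 _).inv_left).eq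
                rw [e1]
                calc z1 * z2 * (a * b * a⁻¹) * (b⁻¹ * z1⁻¹) * z2⁻¹
                    = z1 * z2 * (a * b * a⁻¹ * b⁻¹) * (z1⁻¹ * z2⁻¹) := by group
                  _ = _ := by rw [e2]; group
              _ = a * b * a⁻¹ * b⁻¹ := by rw [c2, mul_inv_cancel_right, c1, mul_inv_cancel_right]
          rwa [MulAut.conj_apply] at e
        calc ⁅a, b⁆ * u = u * ⁅a, b⁆ * u⁻¹ * u := by rw [h3]
          _ = u * ⁅a, b⁆ := by group
      exact (mem_centralizer_singleton_iff.1 (hle2 hd.1)).symm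
    haveI : Group.IsNilpotent Rb := (hR.map π).isNilpotent
    have hDb : ((⁅R, R⁆).map π).subgroupOf Rb ≠ ⊥ := by
      rw [Ne, Subgroup.subgroupOf_eq_bot, disjoint_iff, inf_eq_left.2 (map_mono (commutator_le_left R R)),
        Subgroup.map_eq_bot_iff, QuotientGroup.ker_mk']
      exact hle
    haveI : ((⁅R, R⁆).map π).Normal := (inferInstance : (⁅R, R⁆).Normal).map π (QuotientGroup.mk'_surjective Z)
    have h1 := CfsgLib.Core.inf_center_ne_bot_of_isNilpotent _ hDb
    rw [Ne, eq_bot_iff_forall] at h1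
    push Not at h1
    obtain ⟨⟨x, hx⟩, ⟨hx1, hx2⟩, hx3⟩ := h1
    obtain ⟨d, hd, rfl⟩ := hx1
    have hdE : d ∈ E := by
      refine ⟨hd, mem_centralizer_iff.2 fun y hy => ?_⟩
      exact congrArg Subtype.val (mem_center_iff.1 hx2 ⟨y, hy⟩)
    refine hx3 (Subtype.ext ?_)
    show π d = 1
    exact (QuotientGroup.eq_one_iff d).2 ⟨commutator_le_left R R hd,
      mem_centralizer_iff.2 fun g _ => (hcen d (hscal E hEn hEab d hdE) g).symm⟩
  by_cases hab : ∀ a ∈ R, ∀ b ∈ R, a * b = b * a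
  · exact fun a ha => (hcen a (hscal R hRn hab a ha) σ).symm
  simp only [not_forall] at hab
  obtain ⟨a0, ha0, b0, hb0, hne0⟩ := hab
  have hcomm1 : ∀ a ∈ R, ∀ b ∈ R, ⁅a, b⁆ ^ n = 1 := by
    intro a ha b hb
    refine Subtype.ext ?_
    rw [Subgroup.coe_pow]
    refine pow_card_eq_one_of_scal_det hn (hZs _ (hD (commutator_mem_commutator ha hb))) ?_
    have := map_commutatorElement (LinearEquiv.det.comp X.subtype) a b
    rw [MonoidHom.comp_apply] at this
    exact this.trans (commutatorElement_eq_one_iff_mul_comm.2 (mul_comm _ _))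
  have hrn : r = n := by
    by_contra hne
    obtain ⟨k, hk⟩ := hR ⟨⁅a0, b0⁆, commutator_le_left R R (commutator_mem_commutator ha0 hb0)⟩
    refine hne0 (commutatorElement_eq_one_iff_mul_comm.1 (orderOf_eq_one_iff.1 ?_))
    exact Nat.eq_one_of_dvd_coprimes (((Nat.coprime_primes hr hprime).2 hne).pow_left k)
      (orderOf_dvd_of_pow_eq_one (congrArg Subtype.val hk)) (orderOf_dvd_of_pow_eq_one (hcomm1 _ ha0 _ hb0))
  -- the quotient `R / Z`
  let Z' : Subgroup R := Z.subgroupOf R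
  haveI : Z'.Normal := hZn.subgroupOf R
  have hsmall : Nat.card (R ⧸ Z') ≤ n * n := by
    classical
    have hfr : Module.finrank (ZMod p) (Module.End (ZMod p) V) = n * n := by
      rw [Module.finrank_linearMap, hn]
    haveI : Fintype (R ⧸ Z') := Fintype.ofFinite _
    rw [Nat.card_eq_fintype_card, ← hfr]
    let T : R ⧸ Z' → Module.End (ZMod p) V := fun q => lin (((q.out : R) : X) : V ≃ₗ[ZMod p] V)
    let L : R → (Module.End (ZMod p) V →ₗ[ZMod p] Module.End (ZMod p) V) := fun b =>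
      (((b : X) : V ≃ₗ[ZMod p] V).conjAlgEquiv (ZMod p)).toLinearMap
    have hsc : ∀ (q : R ⧸ Z') (b : R), ∃ c : ZMod p, ∀ v,
        ((((b : X) * (q.out : R) * (b : X)⁻¹ * ((q.out : R) : X)⁻¹ : X)) : V ≃ₗ[ZMod p] V) v = c • v := fun q b =>
      scal_iff.1 (hZs _ (hD (commutator_mem_commutator b.2 (q.out : R).2)))
    choose χ hχ using hsc
    refine LinearIndependent.fintype_card_le_finrank (b := T) (linearIndependent_of_characters L T χ
      (fun q e => ?_) (fun q b => ?_) fun q q' e => ?_)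
    · haveI : Nontrivial V := Module.nontrivial_of_finrank_pos (R := ZMod p) (by rw [hn]; exact hprime.pos)
      obtain ⟨v, hv⟩ := exists_ne (0 : V)
      exact hv ((LinearEquiv.map_eq_zero_iff _).1 (LinearMap.congr_fun e v))
    · refine LinearMap.ext fun v => ?_
      have h := hχ q b ((((q.out : R) : X) : V ≃ₗ[ZMod p] V) v)
      simp only [Subgroup.coe_mul, Subgroup.coe_inv, LinearEquiv.mul_apply] at h
      rw [← LinearEquiv.mul_apply ((((q.out : R) : X) : V ≃ₗ[ZMod p] V))⁻¹, inv_mul_cancel] at h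
      exact h
    · rw [← q.out_eq', ← q'.out_eq', QuotientGroup.eq]
      refine mem_inf.2 ⟨((q.out : R)⁻¹ * q'.out).2, mem_centralizer_iff.2 fun b hb => ?_⟩
      show b * ((((q.out : R) : X))⁻¹ * ((q'.out : R) : X)) = _
      have key : b * (q.out : R) * b⁻¹ * ((q.out : R) : X)⁻¹ = b * (q'.out : R) * b⁻¹ * ((q'.out : R) : X)⁻¹ := by
        refine Subtype.ext (LinearEquiv.ext fun v => ?_)
        rw [hχ q ⟨b, hb⟩ v, hχ q' ⟨b, hb⟩ v, congrFun e ⟨b, hb⟩]
      set a := ((q.out : R) : X)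
      set a' := ((q'.out : R) : X)
      have c := hcen (b * a * b⁻¹ * a⁻¹) (hZs _ (hD (commutator_mem_commutator hb (q.out : R).2)))
      set z := b * a * b⁻¹ * a⁻¹ with hz
      have e1 : b * a⁻¹ = a⁻¹ * z⁻¹ * b := by rw [hz]; group
      have e2 : b * a' = z * a' * b := by rw [key]; group
      calc b * (a⁻¹ * a') = b * a⁻¹ * a' := (mul_assoc _ _ _).symm
        _ = a⁻¹ * z⁻¹ * (b * a') := by rw [e1]; group
        _ = a⁻¹ * a' * b := by rw [e2]; group
  obtain ⟨k, hk⟩ := IsPGroup.iff_card.1 (hR.to_quotient Z')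
  subst hrn
  have hk2 : k ≤ 2 := by
    by_contra hk3
    have : r ^ 3 ≤ r * r := le_trans (Nat.pow_le_pow_right hr.pos (by omega)) (hk ▸ hsmall)
    rw [show r ^ 3 = r * r * r by ring] at this
    nlinarith [hr.two_le]
  let α : R ≃* R :=
    { toFun := fun a => ⟨σ * a * σ⁻¹, hRn.conj_mem _ a.2 σ⟩
      invFun := fun a => ⟨σ⁻¹ * a * σ, by simpa using hRn.conj_mem _ a.2 σ⁻¹⟩
      left_inv := fun a => Subtype.ext (by simp [mul_assoc])
      right_inv := fun a => Subtype.ext (by simp [mul_assoc])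
      map_mul' := fun a b => Subtype.ext (by
        show σ * ((a : X) * b) * σ⁻¹ = σ * a * σ⁻¹ * (σ * b * σ⁻¹)
        group) }
  have hαZ : Z'.map α.toMonoidHom = Z' := by
    refine le_antisymm (map_le_iff_le_comap.2 fun a ha => hZn.conj_mem _ ha σ) fun a ha =>
      ⟨α.symm a, ?_, α.apply_symm_apply a⟩
    show σ⁻¹ * (a : X) * σ ∈ Z
    simpa using hZn.conj_mem _ ha σ⁻¹
  let β : MulAut (R ⧸ Z') := QuotientGroup.congr Z' Z' α hαZ
  have hβ : ∀ (m : ℕ) (a : R), (β ^ m) (a : R ⧸ Z') = ((α ^ m) a : R ⧸ Z') := by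
    intro m
    induction m with
    | zero => intro a; rfl
    | succ m ih =>
      intro a
      rw [pow_succ', pow_succ', MulAut.mul_apply, MulAut.mul_apply, ih]
      rfl
  have hαm : ∀ (m : ℕ) (a : R), (((α : MulAut R) ^ m) a : X) = σ ^ m * a * (σ ^ m)⁻¹ := by
    intro m
    induction m with
    | zero => intro a; simp
    | succ m ih =>
      intro a
      rw [pow_succ', MulAut.mul_apply]
      show σ * (((α : MulAut R) ^ m) a : X) * σ⁻¹ = _
      rw [ih, pow_succ']
      group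
  let π : Equiv.Perm (R ⧸ Z') := β.toEquiv
  have hπm : ∀ (m : ℕ) (q : R ⧸ Z'), (π ^ m) q = (β ^ m) q := by
    intro m
    induction m with
    | zero => intro q; rfl
    | succ m ih => intro q; rw [pow_succ', pow_succ', Equiv.Perm.mul_apply, MulAut.mul_apply, ih]; rfl
  have hπ : π ^ s = 1 := Equiv.ext fun q => by
    induction q using QuotientGroup.induction_on with
    | H a =>
      rw [hπm, hβ]
      show _ = (a : R ⧸ Z')
      congr 1
      refine Subtype.ext ?_
      rw [hαm, hσs]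
      simp
  let F : Subgroup (R ⧸ Z') :=
    { carrier := {q | β q = q}
      one_mem' := map_one β
      mul_mem' := fun {x y} hx hy => show β (x * y) = x * y by
        rw [map_mul, show β x = x from hx, show β y = y from hy]
      inv_mem' := fun {x} hx => show β x⁻¹ = x⁻¹ by rw [map_inv, show β x = x from hx] }
  have hmod := modEq_card_fixed π hs.1 hπ
  have hFc : Nat.card {q : R ⧸ Z' // π q = q} = Nat.card F := rfl
  rw [hFc, hk] at hmod
  obtain ⟨i, hik, hFi⟩ := (Nat.dvd_prime_pow hr).1 (hk ▸ F.card_subgroup_dvd_card)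
  rw [hFi] at hmod
  have hsr : s ≠ r := by omega
  have hFtop : F = ⊤ := by
    refine eq_top_of_card_eq F ?_
    rw [hFi, hk]
    by_contra hne
    have hlt : i < k := lt_of_le_of_ne hik fun e => hne (by rw [e])
    have h2 := (Nat.modEq_iff_dvd' (Nat.pow_le_pow_right hr.pos hik)).1 hmod.symm
    rw [show r ^ k - r ^ i = r ^ i * (r ^ (k - i) - 1) by
      rw [Nat.mul_sub, mul_one, ← pow_add, Nat.add_sub_cancel' hik]] at h2
    have h3 := (((Nat.coprime_primes hs.1 hr).2 hsr).pow_right i).dvd_of_dvd_mul_left h2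
    obtain ⟨c, hc⟩ := hs.modEq_one hprime.ne_zero
    rcases (show k - i = 1 ∨ k - i = 2 by omega) with e | e <;> rw [e] at h3
    · rw [pow_one] at h3
      have := Nat.le_of_dvd (by omega) h3
      omega
    · rw [show r ^ 2 - 1 = (r + 1) * (r - 1) from by
        rw [show (1 : ℕ) = 1 ^ 2 from (one_pow 2).symm, Nat.sq_sub_sq]; simp] at h3
      rcases hs.1.dvd_mul.1 h3 with h4 | h4
      · have h5 := Nat.le_of_dvd (by omega) h4
        have he : s = r + 1 := by omega
        obtain ⟨l, hl⟩ := hr.odd_of_ne_two (by omega)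
        have : 2 ∣ s := ⟨l + 1, by omega⟩
        rcases hs.1.eq_two_or_odd with h6 | h6 <;> omega
      · have := Nat.le_of_dvd (by omega) h4
        omega
  intro a ha
  have h1 : β ((⟨a, ha⟩ : R) : R ⧸ Z') = ((⟨a, ha⟩ : R) : R ⧸ Z') := (hFtop.ge (mem_top _) : _ ∈ F)
  have h2 : (((α : MulAut R) ^ 1) ⟨a, ha⟩ : R ⧸ Z') = ((⟨a, ha⟩ : R) : R ⧸ Z') := by rwa [pow_one]
  rw [QuotientGroup.eq, Subgroup.mem_subgroupOf, Subgroup.coe_mul, Subgroup.coe_inv, hαm, pow_one] at h2
  set z := (σ * a * σ⁻¹)⁻¹ * a with hz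
  have cz := hcen z (hZs z h2)
  have hconj : σ * a * σ⁻¹ = a * z⁻¹ := by rw [hz]; group
  have hm : ∀ m : ℕ, σ ^ m * a * (σ ^ m)⁻¹ = a * (z ^ m)⁻¹ := by
    intro m
    induction m with
    | zero => simp
    | succ m ih =>
      have cm : Commute σ (z ^ m)⁻¹ := ((show Commute z σ from cz σ).pow_left m).inv_left.symm
      calc σ ^ (m + 1) * a * (σ ^ (m + 1))⁻¹ = σ * (σ ^ m * a * (σ ^ m)⁻¹) * σ⁻¹ := by rw [pow_succ']; group
        _ = σ * (a * (z ^ m)⁻¹) * σ⁻¹ := by rw [ih]
        _ = σ * a * σ⁻¹ * (σ * (z ^ m)⁻¹ * σ⁻¹) := by group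
        _ = a * z⁻¹ * (z ^ m)⁻¹ := by rw [hconj, cm.eq, mul_inv_cancel_right]
        _ = a * (z ^ (m + 1))⁻¹ := by rw [mul_assoc, ← mul_inv_rev, ← pow_succ]
  have hzs : z ^ s = 1 := by
    have := hm s
    rw [hσs, one_mul, inv_one, mul_one, left_eq_mul, inv_eq_one] at this
    exact this
  obtain ⟨l, hl⟩ := hR ⟨z, (mem_inf.1 h2).1⟩
  have hz1 : z = 1 := orderOf_eq_one_iff.1 (Nat.eq_one_of_dvd_coprimes
    (((Nat.coprime_primes hs.1 hr).2 hsr).pow_right l)
    (orderOf_dvd_of_pow_eq_one hzs) (orderOf_dvd_of_pow_eq_one (congrArg Subtype.val hl)))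
  rw [hz1, inv_one, mul_one] at hconj
  calc σ * a = σ * a * σ⁻¹ * σ := by group
    _ = a * σ := by rw [hconj]

/-- A solvable linear group of odd prime degree whose order is divisible by a primitive prime divisor
of `p ^ n - 1` is semilinear. -/
theorem exists_coords_of_prime_degree (hprime : n.Prime) (hodd : 2 < n)
    (hn : Module.finrank (ZMod p) V = n) [Group.IsSolvable X] (hs : Prim p s n) (hsX : s ∣ Nat.card X) :
    ∃ K, Nonempty (Coords n X K) := by
  haveI : Finite (V ≃ₗ[ZMod p] V) := Finite.of_injective _ DFunLike.coe_injective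
  haveI := Fact.mk hs.1
  obtain ⟨σ, hσ⟩ := exists_prime_orderOf_dvd_card' (G := X) s hsX
  have hsn : n < s := by
    obtain ⟨c, hc⟩ := hs.modEq_one hprime.ne_zero
    have := hs.1.two_le
    have hc0 : c ≠ 0 := fun e => by subst e; omega
    have : n * 1 ≤ n * c := Nat.mul_le_mul_left _ (by omega)
    omega
  by_contra hno
  have hscal : ∀ A : Subgroup X, A.Normal → (∀ a ∈ A, ∀ b ∈ A, a * b = b * a) →
      ∀ a ∈ A, Scal (a : V ≃ₗ[ZMod p] V) := fun A hA hab a ha => by
    by_contra hna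
    exact hno (coords_of_abelian_normal hprime hn hs hsn X σ.2 (by rw [Subgroup.orderOf_coe, hσ]) A hA hab
      ⟨a, ha, hna⟩)
  have hσs : σ ^ s = 1 := hσ ▸ pow_orderOf_eq_one σ
  have hF : Cfsg.fittingSubgroup X ≤ centralizer ({σ} : Set X) := by
    rw [CfsgLib.Core.fittingSubgroup_eq_iSup_pCore]
    refine iSup_le fun r a ha => mem_centralizer_singleton_iff.2 ?_
    exact (commute_normal_pGroup X hprime hodd hn hs hsn σ hσs hscal r.2 _
      (CfsgLib.Core.isPGroup_pCore _ _) a ha).symm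
  have hσC : σ ∈ centralizer (Cfsg.fittingSubgroup X : Set X) :=
    mem_centralizer_iff.2 fun a ha => mem_centralizer_singleton_iff.1 (hF ha)
  have hσF := CfsgLib.Components.centralizer_fitting_le_of_isSolvable hσC
  have hsc := hscal (Cfsg.fittingSubgroup X ⊓ centralizer (Cfsg.fittingSubgroup X : Set X)) inferInstance
    (fun a ha b hb => ((mem_centralizer_iff.1 (mem_inf.1 ha).2) b (mem_inf.1 hb).1).symm) σ ⟨hσF, hσC⟩
  obtain ⟨c, hc⟩ := scal_iff.1 hsc
  haveI : Nontrivial V := Module.nontrivial_of_finrank_pos (R := ZMod p) (by omega)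
  obtain ⟨v, hv⟩ := exists_ne (0 : V)
  have hne : (σ : V ≃ₗ[ZMod p] V) ≠ 1 := fun e => by
    rw [show σ = 1 from Subtype.ext e, orderOf_one] at hσ
    exact hs.1.one_lt.ne hσ
  rcases eq_bot_or_top (σ := (σ : V ≃ₗ[ZMod p] V)) (s := s) (hn ▸ hs) (by omega)
    (by rw [← Subgroup.coe_pow, hσs, Subgroup.coe_one]) hne (Submodule.span (ZMod p) {v})
    (fun w hw => by rw [hc]; exact Submodule.smul_mem _ _ hw) with e | e
  · exact hv (by simpa using e)
  · have h1 := finrank_span_singleton (K := ZMod p) hv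
    rw [e, finrank_top, hn] at h1
    omega

end CfsgLib.ClassSizes.SolvAutomizer
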